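import Mathlib
import Groth.Agent.Lib.Helper1.LocalCrit

set_option linter.style.haveILetI false
set_option linter.unusedVariables false
set_option linter.unusedSectionVars false
set_option autoImplicit false
set_option backward.isDefEq.respectTransparency.types false
set_option synthInstance.maxHeartbeats 400000
set_option maxHeartbeats 800000

universe u

/-! helper7: injectivity modulo the maximal ideal: ideal-wise injectivity property, flatness of the cokernel, Noetherian local case over a non-local base -/

open TensorProduct

namespace Groth.Agent.Helper7.InjFib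

open Groth.Agent.Helper1.LocalCrit

/-- the ideal-wise injectivity property gives flatness of the cokernel -/
theorem flat_quotient_range_of_forall_mem {R : Type u} [CommRing R] {N M : Type u}
    [AddCommGroup N] [Module R N] [AddCommGroup M] [Module R M] [Module.Flat R M]
    (u : N →ₗ[R] M)
    (hD : ∀ (J : Ideal R) (x : N), u x ∈ J • (⊤ : Submodule R M) →
      x ∈ J • (⊤ : Submodule R N)) :
    Module.Flat R (M ⧸ LinearMap.range u) := by
  rw [Module.Flat.iff_rTensor_injective']
  intro J
  rw [injective_iff_map_eq_zero]
  intro x hx
  let π := (LinearMap.range u).mkQ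
  have hπ : Function.Surjective π := Submodule.mkQ_surjective _
  have hex : Function.Exact u π := LinearMap.exact_map_mkQ_range u
  obtain ⟨y, rfl⟩ := LinearMap.lTensor_surjective J hπ x
  have h1 : π.lTensor R (J.subtype.rTensor M y) = 0 := by
    rw [← LinearMap.comp_apply, LinearMap.lTensor_comp_rTensor, ← LinearMap.rTensor_comp_lTensor,
      LinearMap.comp_apply, hx]
  obtain ⟨w, hw⟩ := (lTensor_exact R hex hπ _).mp h1
  have hnat : ∀ w : R ⊗[R] N, u (TensorProduct.lid R N w) =
      TensorProduct.lid R M (u.lTensor R w) := by
    intro w
    induction w using TensorProduct.induction_on with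
    | zero => simp
    | tmul r n => simp
    | add a b ha hb => simp only [map_add, ha, hb]
  have h2 : u (TensorProduct.lid R N w) = TensorProduct.lid R M (J.subtype.rTensor M y) := by
    rw [← hw, hnat]
  have h3 := hD J (TensorProduct.lid R N w)
    (by rw [h2]; exact lid_rTensor_subtype_mem J y)
  obtain ⟨z, hz⟩ := exists_lid_rTensor_subtype_eq J _ h3
  have hz' : J.subtype.rTensor N z = w := (TensorProduct.lid R N).injective hz
  have h4 : J.subtype.rTensor M (u.lTensor J z) = J.subtype.rTensor M y := by
    rw [← LinearMap.comp_apply, LinearMap.rTensor_comp_lTensor, ← LinearMap.lTensor_comp_rTensor,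
      LinearMap.comp_apply, hz', hw]
  have h5 : u.lTensor J z = y :=
    Module.Flat.rTensor_preserves_injective_linearMap _ J.subtype_injective h4
  rw [← h5, ← LinearMap.comp_apply, ← LinearMap.lTensor_comp]
  have : π ∘ₗ u = 0 := LinearMap.range_mkQ_comp u
  rw [this, LinearMap.lTensor_zero, LinearMap.zero_apply]

theorem injective_of_forall_mem {R : Type u} [CommRing R] {N M : Type u}
    [AddCommGroup N] [Module R N] [AddCommGroup M] [Module R M]
    (u : N →ₗ[R] M)
    (hD : ∀ (J : Ideal R) (x : N), u x ∈ J • (⊤ : Submodule R M) →
      x ∈ J • (⊤ : Submodule R N)) :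
    Function.Injective u := by
  rw [injective_iff_map_eq_zero]
  intro x hx
  have := hD ⊥ x (by rw [hx]; exact zero_mem _)
  rw [Submodule.bot_smul] at this
  exact (Submodule.mem_bot R).mp this

/-- extended ideal times top, as a set, is the ideal times top -/
theorem mem_map_smul_top_iff {R S X : Type*} [CommRing R] [CommRing S] [Algebra R S]
    [AddCommGroup X] [Module R X] [Module S X] [IsScalarTower R S X] (J : Ideal R) (x : X) :
    x ∈ (J.map (algebraMap R S)) • (⊤ : Submodule S X) ↔ x ∈ J • (⊤ : Submodule R X) := by
  have h := Ideal.smul_restrictScalars (R := R) (S := S) (M := X) J ⊤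
  rw [Submodule.restrictScalars_top] at h
  rw [← h, Submodule.restrictScalars_mem]

/-- the Noetherian local statement, with a base ring that need not be local -/
theorem mem_smul_top_of_noeth {G S : Type u} [CommRing G] [CommRing S] [Algebra G S]
    [IsNoetherianRing S] [IsLocalRing S]
    {X Y : Type u} [AddCommGroup X] [Module G X] [Module S X] [IsScalarTower G S X]
    [Module.Finite S X]
    [AddCommGroup Y] [Module G Y] [Module S Y] [IsScalarTower G S Y] [Module.Flat G Y]
    (u : X →ₗ[S] Y)
    (hfib : ∀ x : X,
      u x ∈ ((IsLocalRing.maximalIdeal S).comap (algebraMap G S)) • (⊤ : Submodule G Y) →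
      x ∈ ((IsLocalRing.maximalIdeal S).comap (algebraMap G S)) • (⊤ : Submodule G X))
    (J : Ideal G) (x : X) (hx : u x ∈ J • (⊤ : Submodule G Y)) :
    x ∈ J • (⊤ : Submodule G X) := by
  set p := (IsLocalRing.maximalIdeal S).comap (algebraMap G S) with hp
  haveI : p.IsPrime := Ideal.comap_isPrime _ _
  let R' := Localization.AtPrime p
  have hunit : ∀ y : p.primeCompl, IsUnit (algebraMap G S y) := fun y => by
    have h1 : algebraMap G S y ∉ IsLocalRing.maximalIdeal S := y.2
    rw [IsLocalRing.mem_maximalIdeal, mem_nonunits_iff, not_not] at h1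
    exact h1
  letI aR'S : Algebra R' S := (IsLocalization.lift (M := p.primeCompl) (S := R') hunit).toAlgebra
  have halg : ∀ r : R', algebraMap R' S r = IsLocalization.lift (M := p.primeCompl) hunit r :=
    fun r => rfl
  haveI t1 : IsScalarTower G R' S := IsScalarTower.of_algebraMap_eq fun g => by
    rw [halg, IsLocalization.lift_eq]
  haveI : IsLocalHom (algebraMap R' S) := by
    refine ⟨fun r hr => ?_⟩
    obtain ⟨a, s, rfl⟩ := IsLocalization.exists_mk'_eq p.primeCompl r
    rw [halg, IsLocalization.lift_mk'] at hr
    have ha : IsUnit (algebraMap G S a) := isUnit_of_mul_isUnit_left hr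
    rw [IsLocalization.AtPrime.isUnit_mk'_iff R' p]
    intro hap
    have : algebraMap G S a ∈ IsLocalRing.maximalIdeal S := hap
    exact (IsLocalRing.mem_maximalIdeal _).mp this ha
  letI mX : Module R' X := Module.compHom X (algebraMap R' S)
  haveI t2 : IsScalarTower R' S X := IsScalarTower.of_compHom R' S X
  haveI t3 : IsScalarTower G R' X := IsScalarTower.of_algebraMap_smul fun g x => by
    show algebraMap R' S (algebraMap G R' g) • x = g • x
    rw [← IsScalarTower.algebraMap_apply G R' S, algebraMap_smul]
  letI mY : Module R' Y := Module.compHom Y (algebraMap R' S)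
  haveI t4 : IsScalarTower R' S Y := IsScalarTower.of_compHom R' S Y
  haveI t5 : IsScalarTower G R' Y := IsScalarTower.of_algebraMap_smul fun g x => by
    show algebraMap R' S (algebraMap G R' g) • x = g • x
    rw [← IsScalarTower.algebraMap_apply G R' S, algebraMap_smul]
  haveI : Module.Flat R' Y := (Module.flat_iff_of_isLocalization R' p.primeCompl Y).mpr inferInstance
  let u' : X →ₗ[R'] Y := u.restrictScalars R'
  have hmax : IsLocalRing.maximalIdeal R' = p.map (algebraMap G R') :=
    (Localization.AtPrime.map_eq_maximalIdeal).symm
  have h : Function.Injective (u'.lTensor (IsLocalRing.ResidueField R')) := by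
    rw [lTensor_residueField_injective_iff]
    intro z hz
    rw [hmax, mem_map_smul_top_iff] at hz ⊢
    exact hfib z hz
  have := mem_smul_top_of_map_mem_of_residueField (S := S) u' h (J.map (algebraMap G R')) x
    (by rw [mem_map_smul_top_iff]; exact hx)
  rw [mem_map_smul_top_iff] at this
  exact this

end Groth.Agent.Helper7.InjFib
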