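import Mathlib
import Groth.Agent.Lib.Helper3.ColimFlat8

set_option linter.style.haveILetI false
set_option linter.unusedVariables false
set_option linter.unusedSectionVars false
set_option autoImplicit false
set_option backward.isDefEq.respectTransparency.types false
set_option synthInstance.maxHeartbeats 400000
set_option maxHeartbeats 800000

universe u

/-! helper7: descent of a finitely presented algebra with a map of finitely presented modules to a finitely generated subring -/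

open TensorProduct

namespace Groth.Agent.Helper7.InjFib

open Groth.Agent.Helper3.ColimFlat

attribute [local instance] Algebra.TensorProduct.rightAlgebra

section Coker

variable {S₀ S : Type u} [CommRing S₀] [CommRing S] [Algebra S₀ S] {n : ℕ}
  {E₀ E : Type u} [AddCommGroup E₀] [Module S₀ E₀] [AddCommGroup E] [Module S E] [Module S₀ E]
  [IsScalarTower S₀ S E]
  (h₁ : E₀ →ₗ[S₀] E) (hh₁ : IsBaseChange S h₁)
  (k₀ : E₀ →ₗ[S₀] (Fin n → S₀)) (k : E →ₗ[S] (Fin n → S))
  (hk : ((Algebra.linearMap S₀ S).compLeft (Fin n)) ∘ₗ k₀ = (k.restrictScalars S₀) ∘ₗ h₁)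
  {M : Type u} [AddCommGroup M] [Module S M] [Module S₀ M] [IsScalarTower S₀ S M]
  (f : (Fin n → S) →ₗ[S] M) (hf : Function.Surjective f) (hkf : Function.Exact k f)

include hk hkf in
theorem range_le_ker : LinearMap.range k₀ ≤
    LinearMap.ker ((f.restrictScalars S₀) ∘ₗ ((Algebra.linearMap S₀ S).compLeft (Fin n))) := by
  rintro _ ⟨x, rfl⟩
  rw [LinearMap.mem_ker, LinearMap.comp_apply, ← LinearMap.comp_apply (g := k₀), hk,
    LinearMap.comp_apply, LinearMap.restrictScalars_apply, LinearMap.restrictScalars_apply]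
  exact hkf.apply_apply_eq_zero _

/-- the comparison map from the cokernel of the descended map -/
noncomputable def cokerMap : ((Fin n → S₀) ⧸ LinearMap.range k₀) →ₗ[S₀] M :=
  (LinearMap.range k₀).liftQ _ (range_le_ker h₁ k₀ k hk f hkf)

theorem cokerMap_mk (y : Fin n → S₀) :
    cokerMap h₁ k₀ k hk f hkf (Submodule.Quotient.mk y) = f (fun v => algebraMap S₀ S (y v)) :=
  rfl

include hh₁ hf in
theorem isBaseChange_cokerMap : IsBaseChange S (cokerMap h₁ k₀ k hk f hkf) := by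
  refine IsBaseChange.of_right_exact S h₁ ((Algebra.linearMap S₀ S).compLeft (Fin n)) _
    (f := k₀) (g := (LinearMap.range k₀).mkQ) (f' := k) (g' := f) hk ?_ hh₁
    (IsBaseChange.finitePow (Fin n) (IsBaseChange.linearMap S₀ S))
    (LinearMap.exact_map_mkQ_range _) (Submodule.mkQ_surjective _) hkf hf
  ext x
  simp [cokerMap]

end Coker

section Model

variable (R C : Type u) [CommRing R] [CommRing C] [Algebra R C] [Algebra.FinitePresentation R C]
  {M₁ N₁ : Type u} [AddCommGroup M₁] [Module C M₁] [Module.FinitePresentation C M₁]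
  [AddCommGroup N₁] [Module C N₁] [Module.FinitePresentation C N₁] (u₁ : M₁ →ₗ[C] N₁)

set_option maxHeartbeats 3200000 in
/-- a finitely presented algebra with a map of finitely presented modules descends to a finitely
generated subring -/
theorem exists_model₂ :
    ∃ (R₀ : Subalgebra ℤ R), R₀.FG ∧ ∃ (C₀ : Type u) (_ : CommRing C₀) (_ : Algebra R₀ C₀)
      (_ : Algebra C₀ C) (_ : IsScalarTower R₀ C₀ C)
      (M₀ : Type u) (_ : AddCommGroup M₀) (_ : Module C₀ M₀)
      (N₀ : Type u) (_ : AddCommGroup N₀) (_ : Module C₀ N₀)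
      (_ : Module C₀ M₁) (_ : IsScalarTower C₀ C M₁) (_ : Module C₀ N₁) (_ : IsScalarTower C₀ C N₁)
      (u₀ : M₀ →ₗ[C₀] N₀) (fM : M₀ →ₗ[C₀] M₁) (fN : N₀ →ₗ[C₀] N₁),
      Algebra.FinitePresentation R₀ C₀ ∧ Module.Finite C₀ M₀ ∧ Module.Finite C₀ N₀ ∧
        Algebra.IsPushout R₀ R C₀ C ∧ IsBaseChange C fM ∧ IsBaseChange C fN ∧
        ∀ x, fN (u₀ x) = u₁ (fM x) := by
  classical
  let P := Algebra.Presentation.ofFinitePresentation R C
  obtain ⟨n₁, m₁, f, g, hf, hfg⟩ := Module.FinitePresentation.exists_fin' C M₁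
  obtain ⟨n₂, m₂, f', g', hf', hfg'⟩ := Module.FinitePresentation.exists_fin' C N₁
  obtain ⟨U, hU⟩ := Module.projective_lifting_property f' (u₁ ∘ₗ f) hf'
  have hU' : ∀ y, f' (U y) = u₁ (f y) := fun y => LinearMap.congr_fun hU y
  have hsurj : Function.Surjective (MvPolynomial.aeval (R := R) P.val) := by
    intro x
    obtain ⟨y, hy⟩ := P.toGenerators.algebraMap_surjective x
    exact ⟨y, by rw [← hy, Algebra.Generators.algebraMap_apply]⟩
  choose p hp using fun (uv : Fin m₁ × Fin n₁) => hsurj (g (Pi.single uv.1 1) uv.2)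
  choose p' hp' using fun (uv : Fin m₂ × Fin n₂) => hsurj (g' (Pi.single uv.1 1) uv.2)
  choose pU hpU using fun (uv : Fin n₁ × Fin n₂) => hsurj (U (Pi.single uv.1 1) uv.2)
  let s : Set R := P.coeffs ∪ ((⋃ uv, ((p uv).coeffs : Set R)) ∪
    ((⋃ uv, ((p' uv).coeffs : Set R)) ∪ (⋃ uv, ((pU uv).coeffs : Set R))))
  have hsfin : s.Finite := P.finite_coeffs.union
    ((Set.finite_iUnion fun _ => Finset.finite_toSet _).union
      ((Set.finite_iUnion fun _ => Finset.finite_toSet _).union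
        (Set.finite_iUnion fun _ => Finset.finite_toSet _)))
  let R₀ : Subalgebra ℤ R := Algebra.adjoin ℤ s
  have hR₀ : R₀.FG := ⟨hsfin.toFinset, by simp [R₀]⟩
  have hrange : s ⊆ Set.range (algebraMap R₀ R) := by
    intro x hx
    exact ⟨⟨x, Algebra.subset_adjoin hx⟩, rfl⟩
  haveI : P.HasCoeffs R₀ := ⟨fun x hx => hrange (Or.inl hx)⟩
  let C₀ := P.ModelOfHasCoeffs R₀
  let e := P.tensorModelOfHasCoeffsEquiv R₀
  letI algC₀C : Algebra C₀ C :=
    (e.toAlgHom.toRingHom.comp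
      (Algebra.TensorProduct.includeRight : C₀ →ₐ[R₀] R ⊗[R₀] C₀).toRingHom).toAlgebra
  have halg : ∀ x : MvPolynomial _ R₀, algebraMap C₀ C (Ideal.Quotient.mk _ x) =
      MvPolynomial.aeval P.val x := by
    intro x
    show e ((1 : R) ⊗ₜ[R₀] (Ideal.Quotient.mk _ x)) = _
    rw [Algebra.Presentation.tensorModelOfHasCoeffsEquiv_tmul, map_one, one_mul]
  haveI : IsScalarTower R₀ C₀ C := IsScalarTower.of_algebraMap_eq (R := R₀) (S := C₀) (A := C)
    (fun r => by
      have : algebraMap R₀ C₀ r = Ideal.Quotient.mk _ (MvPolynomial.C r) := rfl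
      rw [this, halg, MvPolynomial.aeval_C])
  have hdesc : ∀ q : MvPolynomial (Fin (Algebra.Presentation.ofFinitePresentationVars R C)) R,
      ((q.coeffs : Set R) ⊆ s) →
      ∃ q0 : MvPolynomial (Fin (Algebra.Presentation.ofFinitePresentationVars R C)) R₀,
        MvPolynomial.map (algebraMap R₀ R) q0 = q := by
    intro q hq
    have : q ∈ Set.range (MvPolynomial.map (algebraMap R₀ R)) := by
      rw [MvPolynomial.mem_range_map_iff_coeffs_subset]
      exact fun x hx => hrange (hq hx)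
    exact this
  have hp0 : ∀ uv, ∃ q : MvPolynomial _ R₀, MvPolynomial.map (algebraMap R₀ R) q = p uv :=
    fun uv => hdesc _ (fun x hx => Or.inr (Or.inl (Set.mem_iUnion.mpr ⟨uv, hx⟩)))
  have hp0' : ∀ uv, ∃ q : MvPolynomial _ R₀, MvPolynomial.map (algebraMap R₀ R) q = p' uv :=
    fun uv => hdesc _ (fun x hx => Or.inr (Or.inr (Or.inl (Set.mem_iUnion.mpr ⟨uv, hx⟩))))
  have hpU0 : ∀ uv, ∃ q : MvPolynomial _ R₀, MvPolynomial.map (algebraMap R₀ R) q = pU uv :=
    fun uv => hdesc _ (fun x hx => Or.inr (Or.inr (Or.inr (Set.mem_iUnion.mpr ⟨uv, hx⟩))))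
  choose p0 hp0 using hp0
  choose p0' hp0' using hp0'
  choose pU0 hpU0 using hpU0
  let Φ₀ : Fin m₁ → Fin n₁ → C₀ := fun u v => Ideal.Quotient.mk _ (p0 (u, v))
  let Φ₀' : Fin m₂ → Fin n₂ → C₀ := fun u v => Ideal.Quotient.mk _ (p0' (u, v))
  let Ψ₀ : Fin n₁ → Fin n₂ → C₀ := fun u v => Ideal.Quotient.mk _ (pU0 (u, v))
  have hΦ : ∀ u v, algebraMap C₀ C (Φ₀ u v) = g (Pi.single u 1) v := by
    intro u v
    rw [halg, ← MvPolynomial.aeval_map_algebraMap R, hp0, hp]
  have hΦ' : ∀ u v, algebraMap C₀ C (Φ₀' u v) = g' (Pi.single u 1) v := by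
    intro u v
    rw [halg, ← MvPolynomial.aeval_map_algebraMap R, hp0', hp']
  have hΨ : ∀ u v, algebraMap C₀ C (Ψ₀ u v) = U (Pi.single u 1) v := by
    intro u v
    rw [halg, ← MvPolynomial.aeval_map_algebraMap R, hpU0, hpU]
  letI : Module C₀ M₁ := Module.compHom M₁ (algebraMap C₀ C)
  haveI : IsScalarTower C₀ C M₁ := IsScalarTower.of_compHom C₀ C M₁
  letI : Module C₀ N₁ := Module.compHom N₁ (algebraMap C₀ C)
  haveI : IsScalarTower C₀ C N₁ := IsScalarTower.of_compHom C₀ C N₁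
  have cM := compLeft_comp_colMap Φ₀ g hΦ
  have cN := compLeft_comp_colMap Φ₀' g' hΦ'
  have cU := compLeft_comp_colMap Ψ₀ U hΨ
  -- the source module
  let fM : ((Fin n₁ → C₀) ⧸ LinearMap.range (colMap Φ₀)) →ₗ[C₀] M₁ :=
    cokerMap ((Algebra.linearMap C₀ C).compLeft (Fin m₁)) (colMap Φ₀) g cM f hfg
  have hfM : IsBaseChange C fM :=
    isBaseChange_cokerMap _ (IsBaseChange.finitePow (Fin m₁) (IsBaseChange.linearMap C₀ C))
      _ _ cM f hf hfg
  -- the target module
  let k₀N : ((Fin m₂ → C₀) × (Fin m₁ → C₀)) →ₗ[C₀] (Fin n₂ → C₀) :=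
    (colMap Φ₀').coprod (colMap Ψ₀ ∘ₗ colMap Φ₀)
  let kN : ((Fin m₂ → C) × (Fin m₁ → C)) →ₗ[C] (Fin n₂ → C) := g'.coprod (U ∘ₗ g)
  let h₁N : ((Fin m₂ → C₀) × (Fin m₁ → C₀)) →ₗ[C₀] ((Fin m₂ → C) × (Fin m₁ → C)) :=
    ((Algebra.linearMap C₀ C).compLeft (Fin m₂)).prodMap
      ((Algebra.linearMap C₀ C).compLeft (Fin m₁))
  have hh₁N : IsBaseChange C h₁N :=
    IsBaseChange.prodMap _ _ (IsBaseChange.finitePow (Fin m₂) (IsBaseChange.linearMap C₀ C))
      (IsBaseChange.finitePow (Fin m₁) (IsBaseChange.linearMap C₀ C))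
  have hkN : ((Algebra.linearMap C₀ C).compLeft (Fin n₂)) ∘ₗ k₀N =
      (kN.restrictScalars C₀) ∘ₗ h₁N := by
    refine LinearMap.ext fun xy => ?_
    obtain ⟨x, y⟩ := xy
    have e1 := LinearMap.congr_fun cN x
    have e2 := LinearMap.congr_fun cU (colMap Φ₀ y)
    have e3 := LinearMap.congr_fun cM y
    simp only [LinearMap.comp_apply, LinearMap.restrictScalars_apply] at e1 e2 e3
    simp only [k₀N, kN, h₁N, LinearMap.comp_apply, LinearMap.coprod_apply,
      LinearMap.restrictScalars_apply, LinearMap.prodMap_apply, map_add]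
    rw [e1, e2, e3]
  have hkf' : Function.Exact kN f' := by
    intro y
    constructor
    · intro hy
      obtain ⟨x, rfl⟩ := (hfg' y).mp hy
      exact ⟨(x, 0), by simp [kN]⟩
    · rintro ⟨⟨x, z⟩, rfl⟩
      simp only [kN, LinearMap.coprod_apply, LinearMap.comp_apply, map_add]
      rw [hfg'.apply_apply_eq_zero, hU', hfg.apply_apply_eq_zero, map_zero, add_zero]
  let fN : ((Fin n₂ → C₀) ⧸ LinearMap.range k₀N) →ₗ[C₀] N₁ :=
    cokerMap h₁N k₀N kN hkN f' hkf'
  have hfN : IsBaseChange C fN := isBaseChange_cokerMap h₁N hh₁N k₀N kN hkN f' hf' hkf'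
  have hle : LinearMap.range (colMap Φ₀) ≤ (LinearMap.range k₀N).comap (colMap Ψ₀) := by
    rintro _ ⟨x, rfl⟩
    exact ⟨(0, x), by simp [k₀N]⟩
  let u₀ : ((Fin n₁ → C₀) ⧸ LinearMap.range (colMap Φ₀)) →ₗ[C₀]
      ((Fin n₂ → C₀) ⧸ LinearMap.range k₀N) :=
    Submodule.mapQ _ _ (colMap Ψ₀) hle
  refine ⟨R₀, hR₀, C₀, inferInstance, inferInstance, algC₀C, inferInstance, _, inferInstance,
    inferInstance, _, inferInstance, inferInstance, inferInstance, inferInstance, inferInstance,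
    inferInstance, u₀, fM, fN, inferInstance, inferInstance, inferInstance, ?_, hfM, hfN, ?_⟩
  · haveI : IsScalarTower R₀ C₀ (R ⊗[R₀] C₀) := Algebra.TensorProduct.right_isScalarTower
    haveI : Algebra.IsPushout R₀ R C₀ (R ⊗[R₀] C₀) := TensorProduct.isPushout
    exact Algebra.IsPushout.of_equiv (R := R₀) (R' := R) (S := C₀) (S' := R ⊗[R₀] C₀) e rfl
  · intro x
    obtain ⟨y, rfl⟩ := Submodule.Quotient.mk_surjective _ x
    have e2 := LinearMap.congr_fun cU y
    simp only [LinearMap.comp_apply, LinearMap.restrictScalars_apply] at e2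
    show f' (((Algebra.linearMap C₀ C).compLeft (Fin n₂)) (colMap Ψ₀ y)) =
      u₁ (f (((Algebra.linearMap C₀ C).compLeft (Fin n₁)) y))
    rw [e2, hU']

end Model

end Groth.Agent.Helper7.InjFib
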