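import Mathlib
import Groth.Agent.Lib.Lead.FlatLoc8

set_option linter.style.haveILetI false
set_option linter.unusedVariables false
set_option linter.unusedSectionVars false
set_option autoImplicit false
set_option backward.isDefEq.respectTransparency.types false
set_option synthInstance.maxHeartbeats 400000
set_option maxHeartbeats 800000

universe u

/-! helper7: the directed system of stage local rings of a tensor model and its colimit properties -/

open TensorProduct

namespace Groth.Agent.Helper7.InjFib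

open Groth.Agent.Lead.FlatLoc Groth.Agent.Helper3.ColimFlat

attribute [local instance] Algebra.TensorProduct.rightAlgebra

section Sys

variable {A₀ : Type u} [CommRing A₀]
  {ι : Type u} [Preorder ι] (G : ι → Type u) [∀ i, CommRing (G i)]
  [∀ i, Algebra A₀ (G i)] (g : ∀ i j, i ≤ j → G i →ₐ[A₀] G j)
  (A : Type u) [CommRing A] [Algebra A₀ A] [∀ i, Algebra (G i) A] [∀ i, IsScalarTower A₀ (G i) A]
  (hcolim : FlatCA.IsDirectedColimitRing G (fun i j h => (g i j h).toRingHom) A)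
  (B₀ : Type u) [CommRing B₀] [Algebra A₀ B₀]
  (Q : Ideal (B₀ ⊗[A₀] A)) [Q.IsPrime]

/-- the prime at stage `j` -/
noncomputable abbrev Qs (j : ι) : Ideal (B₀ ⊗[A₀] G j) := Q.comap (tmap G A B₀ j)

/-- the local ring at stage `j` -/
abbrev Ss (j : ι) : Type u := Localization.AtPrime (Qs G A B₀ Q j)

/-- the map of local rings from stage `j` to the limit -/
noncomputable def sig (j : ι) : Ss G A B₀ Q j →+* Localization.AtPrime Q :=
  Localization.localRingHom (Qs G A B₀ Q j) Q (tmap G A B₀ j).toRingHom rfl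

include hcolim in
theorem Qs_eq_comap (i j : ι) (h : i ≤ j) :
    Qs G A B₀ Q i = (Qs G A B₀ Q j).comap (tmapG G g B₀ i j h).toRingHom := by
  ext x
  simp only [Ideal.mem_comap]
  show _ ↔ tmap G A B₀ j (tmapG G g B₀ i j h x) ∈ Q
  rw [tmap_comp G g A hcolim B₀]

/-- the transition map of local rings -/
noncomputable def sigG (i j : ι) (h : i ≤ j) : Ss G A B₀ Q i →+* Ss G A B₀ Q j :=
  Localization.localRingHom (Qs G A B₀ Q i) (Qs G A B₀ Q j) (tmapG G g B₀ i j h).toRingHom
    (Qs_eq_comap G g A hcolim B₀ Q i j h)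

theorem sig_algebraMap (j : ι) (t : B₀ ⊗[A₀] G j) :
    sig G A B₀ Q j (algebraMap _ _ t) = algebraMap _ _ (tmap G A B₀ j t) :=
  Localization.localRingHom_to_map _ _ _ _ _

theorem sigG_algebraMap (i j : ι) (h : i ≤ j) (t : B₀ ⊗[A₀] G i) :
    sigG G g A hcolim B₀ Q i j h (algebraMap _ _ t) = algebraMap _ _ (tmapG G g B₀ i j h t) :=
  Localization.localRingHom_to_map _ _ _ _ _

theorem sig_mk' (j : ι) (t : B₀ ⊗[A₀] G j) (d : (Qs G A B₀ Q j).primeCompl) :
    sig G A B₀ Q j (IsLocalization.mk' _ t d) =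
      IsLocalization.mk' (Localization.AtPrime Q) (tmap G A B₀ j t)
        (⟨tmap G A B₀ j d, d.2⟩ : Q.primeCompl) :=
  Localization.localRingHom_mk' _ _ _ _ _ _

theorem sig_sigG (i j : ι) (h : i ≤ j) (x : Ss G A B₀ Q i) :
    sig G A B₀ Q j (sigG G g A hcolim B₀ Q i j h x) = sig G A B₀ Q i x := by
  have : (sig G A B₀ Q j).comp (sigG G g A hcolim B₀ Q i j h) = sig G A B₀ Q i := by
    apply IsLocalization.ringHom_ext (Qs G A B₀ Q i).primeCompl
    refine RingHom.ext fun t => ?_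
    simp only [RingHom.comp_apply]
    rw [sigG_algebraMap, sig_algebraMap, sig_algebraMap, tmap_comp G g A hcolim B₀]
  exact RingHom.congr_fun this x

theorem sigG_self (i : ι) (x : Ss G A B₀ Q i) :
    sigG G g A hcolim B₀ Q i i le_rfl x = x := by
  have : sigG G g A hcolim B₀ Q i i le_rfl = RingHom.id _ := by
    apply IsLocalization.ringHom_ext (Qs G A B₀ Q i).primeCompl
    refine RingHom.ext fun t => ?_
    simp only [RingHom.comp_apply, RingHom.id_apply]
    rw [sigG_algebraMap]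
    congr 1
    obtain ⟨hdir, hne, hid, hcomp, hcompat, hsurj, hker⟩ := hcolim
    induction t using TensorProduct.induction_on with
    | zero => simp
    | tmul b x =>
      have := congrArg (fun φ : G i →+* G i => φ x) (hid i)
      simp only [tmapG, Algebra.TensorProduct.map_tmul, AlgHom.id_apply]
      congr 1
    | add x y hx hy => rw [map_add, hx, hy]
  exact RingHom.congr_fun this x

theorem sigG_sigG (i j k : ι) (hij : i ≤ j) (hjk : j ≤ k) (x : Ss G A B₀ Q i) :
    sigG G g A hcolim B₀ Q j k hjk (sigG G g A hcolim B₀ Q i j hij x) =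
      sigG G g A hcolim B₀ Q i k (hij.trans hjk) x := by
  have : (sigG G g A hcolim B₀ Q j k hjk).comp (sigG G g A hcolim B₀ Q i j hij) =
      sigG G g A hcolim B₀ Q i k (hij.trans hjk) := by
    apply IsLocalization.ringHom_ext (Qs G A B₀ Q i).primeCompl
    refine RingHom.ext fun t => ?_
    simp only [RingHom.comp_apply]
    rw [sigG_algebraMap, sigG_algebraMap, sigG_algebraMap, tmapG_comp G g A hcolim B₀]
  exact RingHom.congr_fun this x

theorem sigG_mk' (i j : ι) (h : i ≤ j) (t : B₀ ⊗[A₀] G i) (d : (Qs G A B₀ Q i).primeCompl) :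
    sigG G g A hcolim B₀ Q i j h (IsLocalization.mk' _ t d) =
      IsLocalization.mk' (Ss G A B₀ Q j) (tmapG G g B₀ i j h t)
        (⟨tmapG G g B₀ i j h d, by
          show tmap G A B₀ j (tmapG G g B₀ i j h d) ∉ Q
          rw [tmap_comp G g A hcolim B₀]
          exact d.2⟩ : (Qs G A B₀ Q j).primeCompl) :=
  Localization.localRingHom_mk' _ _ _ _ _ _

include hcolim in
/-- an element of `B₀ ⊗ G k` dying in `B₀ ⊗ A` dies at a finite stage -/
theorem tmap_ker (k : ι) (w : B₀ ⊗[A₀] G k) (hw : tmap G A B₀ k w = 0) :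
    ∃ l, ∃ h : k ≤ l, tmapG G g B₀ k l h w = 0 := by
  obtain ⟨hdir, hne, hid, hcomp, hcompat, hsurj, hker⟩ := hcolim
  haveI := hdir
  haveI := hne
  have hcomm1 : ∀ (w : B₀ ⊗[A₀] G k),
      ((IsScalarTower.toAlgHom A₀ (G k) A).toLinearMap).rTensor B₀
        (TensorProduct.comm A₀ B₀ (G k) w) = TensorProduct.comm A₀ B₀ A (tmap G A B₀ k w) := by
    intro w
    induction w using TensorProduct.induction_on with
    | zero => simp
    | tmul b x => simp
    | add x y hx hy => simp only [map_add, hx, hy]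
  have hcomm2 : ∀ (l : ι) (h : k ≤ l) (w : B₀ ⊗[A₀] G k),
      ((g k l h).toLinearMap).rTensor B₀ (TensorProduct.comm A₀ B₀ (G k) w) =
        TensorProduct.comm A₀ B₀ (G l) (tmapG G g B₀ k l h w) := by
    intro l h w
    induction w using TensorProduct.induction_on with
    | zero => simp
    | tmul b x => simp
    | add x y hx hy => simp only [map_add, hx, hy]
  have key := rTensor_vanish_of_colimit (R := A₀) (N := G)
    (fun i j h => (g i j h).toLinearMap) ?_ ?_
    (fun i => (IsScalarTower.toAlgHom A₀ (G i) A).toLinearMap) ?_ ?_ ?_ B₀ k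
    (TensorProduct.comm A₀ B₀ (G k) w) (by rw [hcomm1, hw, map_zero])
  · obtain ⟨l, h, hl⟩ := key
    refine ⟨l, h, ?_⟩
    apply (TensorProduct.comm A₀ B₀ (G l)).injective
    rw [map_zero, ← hcomm2]
    exact hl
  · intro i x
    have := congrArg (fun φ : G i →+* G i => φ x) (hid i)
    simpa using this
  · intro i j k hij hjk x
    have := congrArg (fun φ : G i →+* G k => φ x) (hcomp i j k hij hjk)
    simpa using this
  · intro i j h x
    have := congrArg (fun φ : G i →+* A => φ x) (hcompat i j h)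
    simpa using this
  · intro y
    obtain ⟨i, x, hx⟩ := hsurj y
    exact ⟨i, x, hx⟩
  · intro i x hx
    obtain ⟨j, h, hj⟩ := hker i x hx
    exact ⟨j, h, hj⟩

include hcolim in
/-- every element of the limit local ring comes from a stage -/
theorem sig_surj (s : Localization.AtPrime Q) :
    ∃ j, ∃ x : Ss G A B₀ Q j, sig G A B₀ Q j x = s := by
  have hcolim' := hcolim
  obtain ⟨hdir, -⟩ := hcolim
  haveI := hdir
  obtain ⟨t, d, rfl⟩ := IsLocalization.exists_mk'_eq Q.primeCompl s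
  obtain ⟨j₁, t₁, rfl⟩ := exists_tmap_eq G g A hcolim' B₀ t
  obtain ⟨j₂, d₂, hd₂⟩ := exists_tmap_eq G g A hcolim' B₀ d.1
  obtain ⟨k, hk₁, hk₂⟩ := exists_ge_ge j₁ j₂
  have hdk : tmapG G g B₀ j₂ k hk₂ d₂ ∈ (Qs G A B₀ Q k).primeCompl := by
    show tmap G A B₀ k (tmapG G g B₀ j₂ k hk₂ d₂) ∉ Q
    rw [tmap_comp G g A hcolim' B₀, hd₂]
    exact d.2
  refine ⟨k, IsLocalization.mk' _ (tmapG G g B₀ j₁ k hk₁ t₁) ⟨tmapG G g B₀ j₂ k hk₂ d₂, hdk⟩, ?_⟩
  rw [sig_mk', IsLocalization.mk'_eq_iff_eq_mul]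
  show algebraMap _ _ (tmap G A B₀ k (tmapG G g B₀ j₁ k hk₁ t₁)) =
    IsLocalization.mk' _ (tmap G A B₀ j₁ t₁) d *
      algebraMap _ _ (tmap G A B₀ k (tmapG G g B₀ j₂ k hk₂ d₂))
  rw [tmap_comp G g A hcolim' B₀, tmap_comp G g A hcolim' B₀, hd₂, IsLocalization.mk'_spec]

/-- an element of a stage local ring dying in the limit dies at a finite stage -/
theorem sig_ker (i : ι) (x : Ss G A B₀ Q i) (hx : sig G A B₀ Q i x = 0) :
    ∃ j, ∃ h : i ≤ j, sigG G g A hcolim B₀ Q i j h x = 0 := by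
  have hcolim' := hcolim
  obtain ⟨hdir, -⟩ := hcolim'
  haveI := hdir
  obtain ⟨t, d, rfl⟩ := IsLocalization.exists_mk'_eq (Qs G A B₀ Q i).primeCompl x
  rw [sig_mk', IsLocalization.mk'_eq_zero_iff] at hx
  obtain ⟨e, he⟩ := hx
  obtain ⟨j₁, e₁, he₁⟩ := exists_tmap_eq G g A hcolim B₀ e.1
  obtain ⟨k, hk₁, hk₂⟩ := exists_ge_ge i j₁
  have hw : tmap G A B₀ k (tmapG G g B₀ j₁ k hk₂ e₁ * tmapG G g B₀ i k hk₁ t) = 0 := by
    rw [map_mul, tmap_comp G g A hcolim B₀, tmap_comp G g A hcolim B₀, he₁]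
    exact he
  obtain ⟨l, hkl, hl⟩ := tmap_ker G g A hcolim B₀ k _ hw
  refine ⟨l, hk₁.trans hkl, ?_⟩
  rw [sigG_mk', IsLocalization.mk'_eq_zero_iff]
  have hel : tmapG G g B₀ j₁ l (hk₂.trans hkl) e₁ ∈ (Qs G A B₀ Q l).primeCompl := by
    show tmap G A B₀ l (tmapG G g B₀ j₁ l (hk₂.trans hkl) e₁) ∉ Q
    rw [tmap_comp G g A hcolim B₀, he₁]
    exact e.2
  refine ⟨⟨_, hel⟩, ?_⟩
  show tmapG G g B₀ j₁ l (hk₂.trans hkl) e₁ * tmapG G g B₀ i l (hk₁.trans hkl) t = 0
  rw [← tmapG_comp G g A hcolim B₀ j₁ k l hk₂ hkl, ← tmapG_comp G g A hcolim B₀ i k l hk₁ hkl,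
    ← map_mul]
  exact hl

end Sys

end Groth.Agent.Helper7.InjFib
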