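import Mathlib
import Groth.Agent.Lib.Helper7.InjFib.Sys

set_option linter.style.haveILetI false
set_option linter.unusedVariables false
set_option linter.unusedSectionVars false
set_option autoImplicit false
set_option backward.isDefEq.respectTransparency.types false
set_option synthInstance.maxHeartbeats 400000
set_option maxHeartbeats 800000

universe u

/-! helper7: modules over the directed system of stage local rings: transition maps, colimit properties, compatibilities -/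

open TensorProduct

namespace Groth.Agent.Helper7.InjFib

open Groth.Agent.Lead.FlatLoc Groth.Agent.Helper3.ColimFlat

attribute [local instance] Algebra.TensorProduct.rightAlgebra

section SysMod

variable {A₀ : Type u} [CommRing A₀]
  {ι : Type u} [Preorder ι] (G : ι → Type u) [∀ i, CommRing (G i)]
  [∀ i, Algebra A₀ (G i)] (g : ∀ i j, i ≤ j → G i →ₐ[A₀] G j)
  (A : Type u) [CommRing A] [Algebra A₀ A] [∀ i, Algebra (G i) A] [∀ i, IsScalarTower A₀ (G i) A]
  (hcolim : FlatCA.IsDirectedColimitRing G (fun i j h => (g i j h).toRingHom) A)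
  (B₀ : Type u) [CommRing B₀] [Algebra A₀ B₀]
  (Q : Ideal (B₀ ⊗[A₀] A)) [Q.IsPrime]
  (M₀ : Type u) [AddCommGroup M₀] [Module B₀ M₀]

theorem sig_algebraMap_B₀ (j : ι) (b : B₀) :
    sig G A B₀ Q j (algebraMap B₀ (Ss G A B₀ Q j) b) = algebraMap B₀ (Localization.AtPrime Q) b := by
  rw [IsScalarTower.algebraMap_apply B₀ (B₀ ⊗[A₀] G j) (Ss G A B₀ Q j), sig_algebraMap,
    IsScalarTower.algebraMap_apply B₀ (B₀ ⊗[A₀] A) (Localization.AtPrime Q)]
  congr 1
  simp [Algebra.TensorProduct.algebraMap_apply]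

theorem sigG_algebraMap_B₀ (i j : ι) (h : i ≤ j) (b : B₀) :
    sigG G g A hcolim B₀ Q i j h (algebraMap B₀ (Ss G A B₀ Q i) b) =
      algebraMap B₀ (Ss G A B₀ Q j) b := by
  rw [IsScalarTower.algebraMap_apply B₀ (B₀ ⊗[A₀] G i) (Ss G A B₀ Q i), sigG_algebraMap,
    IsScalarTower.algebraMap_apply B₀ (B₀ ⊗[A₀] G j) (Ss G A B₀ Q j)]
  congr 1
  simp [Algebra.TensorProduct.algebraMap_apply]

theorem sig_algebraMap_G (j : ι) (a : G j) :
    sig G A B₀ Q j (algebraMap (G j) (Ss G A B₀ Q j) a) =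
      algebraMap A (Localization.AtPrime Q) (algebraMap (G j) A a) := by
  rw [IsScalarTower.algebraMap_apply (G j) (B₀ ⊗[A₀] G j) (Ss G A B₀ Q j), sig_algebraMap,
    IsScalarTower.algebraMap_apply A (B₀ ⊗[A₀] A) (Localization.AtPrime Q)]
  congr 1

theorem sigG_algebraMap_G (i j : ι) (h : i ≤ j) (a : G i) :
    sigG G g A hcolim B₀ Q i j h (algebraMap (G i) (Ss G A B₀ Q i) a) =
      algebraMap (G j) (Ss G A B₀ Q j) (g i j h a) := by
  rw [IsScalarTower.algebraMap_apply (G i) (B₀ ⊗[A₀] G i) (Ss G A B₀ Q i), sigG_algebraMap,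
    IsScalarTower.algebraMap_apply (G j) (B₀ ⊗[A₀] G j) (Ss G A B₀ Q j)]
  congr 1

/-- `sig` as a `B₀`-linear map -/
noncomputable def sigL (j : ι) : Ss G A B₀ Q j →ₗ[B₀] Localization.AtPrime Q where
  toFun := sig G A B₀ Q j
  map_add' := map_add _
  map_smul' b x := by
    rw [RingHom.id_apply, Algebra.smul_def, Algebra.smul_def, map_mul, sig_algebraMap_B₀]

/-- `sigG` as a `B₀`-linear map -/
noncomputable def sigGL (i j : ι) (h : i ≤ j) : Ss G A B₀ Q i →ₗ[B₀] Ss G A B₀ Q j where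
  toFun := sigG G g A hcolim B₀ Q i j h
  map_add' := map_add _
  map_smul' b x := by
    rw [RingHom.id_apply, Algebra.smul_def, Algebra.smul_def, map_mul, sigG_algebraMap_B₀]

/-- the map of modules from stage `j` to the limit -/
noncomputable def phi (j : ι) : Ss G A B₀ Q j ⊗[B₀] M₀ →ₗ[B₀] Localization.AtPrime Q ⊗[B₀] M₀ :=
  (sigL G A B₀ Q j).rTensor M₀

/-- the transition map of modules -/
noncomputable def phiG (i j : ι) (h : i ≤ j) :
    Ss G A B₀ Q i ⊗[B₀] M₀ →ₗ[B₀] Ss G A B₀ Q j ⊗[B₀] M₀ :=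
  (sigGL G g A hcolim B₀ Q i j h).rTensor M₀

@[simp] theorem phi_tmul (j : ι) (s : Ss G A B₀ Q j) (m : M₀) :
    phi G A B₀ Q M₀ j (s ⊗ₜ m) = sig G A B₀ Q j s ⊗ₜ m := rfl

@[simp] theorem phiG_tmul (i j : ι) (h : i ≤ j) (s : Ss G A B₀ Q i) (m : M₀) :
    phiG G g A hcolim B₀ Q M₀ i j h (s ⊗ₜ m) = sigG G g A hcolim B₀ Q i j h s ⊗ₜ m := rfl

theorem phi_smul (j : ι) (s : Ss G A B₀ Q j) (x : Ss G A B₀ Q j ⊗[B₀] M₀) :
    phi G A B₀ Q M₀ j (s • x) = sig G A B₀ Q j s • phi G A B₀ Q M₀ j x := by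
  induction x using TensorProduct.induction_on with
  | zero => simp
  | tmul s' m => simp [TensorProduct.smul_tmul', map_mul]
  | add x y hx hy => simp only [smul_add, map_add, hx, hy]

theorem phiG_smul (i j : ι) (h : i ≤ j) (s : Ss G A B₀ Q i) (x : Ss G A B₀ Q i ⊗[B₀] M₀) :
    phiG G g A hcolim B₀ Q M₀ i j h (s • x) =
      sigG G g A hcolim B₀ Q i j h s • phiG G g A hcolim B₀ Q M₀ i j h x := by
  induction x using TensorProduct.induction_on with
  | zero => simp
  | tmul s' m => simp [TensorProduct.smul_tmul', map_mul]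
  | add x y hx hy => simp only [smul_add, map_add, hx, hy]

theorem phi_phiG (i j : ι) (h : i ≤ j) (x : Ss G A B₀ Q i ⊗[B₀] M₀) :
    phi G A B₀ Q M₀ j (phiG G g A hcolim B₀ Q M₀ i j h x) = phi G A B₀ Q M₀ i x := by
  induction x using TensorProduct.induction_on with
  | zero => simp
  | tmul s m => simp [sig_sigG]
  | add x y hx hy => simp only [map_add, hx, hy]

theorem phiG_self (i : ι) (x : Ss G A B₀ Q i ⊗[B₀] M₀) :
    phiG G g A hcolim B₀ Q M₀ i i le_rfl x = x := by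
  induction x using TensorProduct.induction_on with
  | zero => simp
  | tmul s m => simp [sigG_self]
  | add x y hx hy => simp only [map_add, hx, hy]

theorem phiG_phiG (i j k : ι) (hij : i ≤ j) (hjk : j ≤ k) (x : Ss G A B₀ Q i ⊗[B₀] M₀) :
    phiG G g A hcolim B₀ Q M₀ j k hjk (phiG G g A hcolim B₀ Q M₀ i j hij x) =
      phiG G g A hcolim B₀ Q M₀ i k (hij.trans hjk) x := by
  induction x using TensorProduct.induction_on with
  | zero => simp
  | tmul s m => simp [sigG_sigG]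
  | add x y hx hy => simp only [map_add, hx, hy]

include hcolim in
/-- every element of the limit module comes from a stage -/
theorem phi_surj (x : Localization.AtPrime Q ⊗[B₀] M₀) :
    ∃ j, ∃ y : Ss G A B₀ Q j ⊗[B₀] M₀, phi G A B₀ Q M₀ j y = x := by
  have hcolim' := hcolim
  obtain ⟨hdir, hne, -⟩ := hcolim'
  haveI := hdir
  induction x using TensorProduct.induction_on with
  | zero =>
    obtain ⟨i⟩ := hne
    exact ⟨i, 0, map_zero _⟩
  | tmul s m =>
    obtain ⟨j, y, rfl⟩ := sig_surj G g A hcolim B₀ Q s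
    exact ⟨j, y ⊗ₜ m, rfl⟩
  | add x₁ x₂ h₁ h₂ =>
    obtain ⟨i₁, y₁, rfl⟩ := h₁
    obtain ⟨i₂, y₂, rfl⟩ := h₂
    obtain ⟨k, hk₁, hk₂⟩ := exists_ge_ge i₁ i₂
    refine ⟨k, phiG G g A hcolim B₀ Q M₀ i₁ k hk₁ y₁ + phiG G g A hcolim B₀ Q M₀ i₂ k hk₂ y₂, ?_⟩
    rw [map_add, phi_phiG, phi_phiG]

/-- an element of a stage module dying in the limit dies at a finite stage -/
theorem phi_ker (i : ι) (z : Ss G A B₀ Q i ⊗[B₀] M₀) (hz : phi G A B₀ Q M₀ i z = 0) :
    ∃ j, ∃ h : i ≤ j, phiG G g A hcolim B₀ Q M₀ i j h z = 0 := by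
  have hcolim' := hcolim
  obtain ⟨hdir, hne, -⟩ := hcolim'
  haveI := hdir
  haveI := hne
  exact rTensor_vanish_of_colimit (R := B₀) (N := fun i => Ss G A B₀ Q i)
    (fun i j h => sigGL G g A hcolim B₀ Q i j h)
    (fun i x => sigG_self G g A hcolim B₀ Q i x)
    (fun i j k hij hjk x => sigG_sigG G g A hcolim B₀ Q i j k hij hjk x)
    (fun i => sigL G A B₀ Q i)
    (fun i j h x => sig_sigG G g A hcolim B₀ Q i j h x)
    (fun y => sig_surj G g A hcolim B₀ Q y)
    (fun i x hx => sig_ker G g A hcolim B₀ Q i x hx) M₀ i z hz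

theorem phi_smul_G (j : ι) (a : G j) (x : Ss G A B₀ Q j ⊗[B₀] M₀) :
    phi G A B₀ Q M₀ j (a • x) = algebraMap (G j) A a • phi G A B₀ Q M₀ j x := by
  rw [← algebraMap_smul (Ss G A B₀ Q j) a x, phi_smul, sig_algebraMap_G, algebraMap_smul]

theorem phiG_smul_G (i j : ι) (h : i ≤ j) (a : G i) (x : Ss G A B₀ Q i ⊗[B₀] M₀) :
    phiG G g A hcolim B₀ Q M₀ i j h (a • x) = g i j h a • phiG G g A hcolim B₀ Q M₀ i j h x := by
  rw [← algebraMap_smul (Ss G A B₀ Q i) a x, phiG_smul, sigG_algebraMap_G, algebraMap_smul]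

/-- `phi` carries `(J ∩ G j)`-multiples to `J`-multiples -/
theorem phi_mem_smul_top (J : Ideal A) (j : ι) (x : Ss G A B₀ Q j ⊗[B₀] M₀)
    (hx : x ∈ (J.comap (algebraMap (G j) A)) • (⊤ : Submodule (G j) (Ss G A B₀ Q j ⊗[B₀] M₀))) :
    phi G A B₀ Q M₀ j x ∈ J • (⊤ : Submodule A (Localization.AtPrime Q ⊗[B₀] M₀)) := by
  refine Submodule.smul_induction_on hx (fun a ha y _ => ?_) (fun y z hy hz => ?_)
  · rw [phi_smul_G]
    exact Submodule.smul_mem_smul ha Submodule.mem_top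
  · rw [map_add]
    exact add_mem hy hz

include hcolim in
/-- `phiG` carries `(J ∩ G i)`-multiples to `(J ∩ G j)`-multiples -/
theorem phiG_mem_smul_top (J : Ideal A) (i j : ι) (h : i ≤ j) (x : Ss G A B₀ Q i ⊗[B₀] M₀)
    (hx : x ∈ (J.comap (algebraMap (G i) A)) • (⊤ : Submodule (G i) (Ss G A B₀ Q i ⊗[B₀] M₀))) :
    phiG G g A hcolim B₀ Q M₀ i j h x ∈
      (J.comap (algebraMap (G j) A)) • (⊤ : Submodule (G j) (Ss G A B₀ Q j ⊗[B₀] M₀)) := by
  refine Submodule.smul_induction_on hx (fun a ha y _ => ?_) (fun y z hy hz => ?_)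
  · rw [phiG_smul_G]
    refine Submodule.smul_mem_smul ?_ Submodule.mem_top
    rw [Ideal.mem_comap]
    have h1 := congrArg (fun φ : G i →+* A => φ a) (hcolim.2.2.2.2.1 i j h)
    simp only [RingHom.comp_apply] at h1
    have h2 : algebraMap (G j) A (g i j h a) = algebraMap (G i) A a := h1
    rw [h2]
    exact ha
  · rw [map_add]
    exact add_mem hy hz

end SysMod

section BC

variable {A₀ : Type u} [CommRing A₀]
  {ι : Type u} [Preorder ι] (G : ι → Type u) [∀ i, CommRing (G i)]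
  [∀ i, Algebra A₀ (G i)] (g : ∀ i j, i ≤ j → G i →ₐ[A₀] G j)
  (A : Type u) [CommRing A] [Algebra A₀ A] [∀ i, Algebra (G i) A] [∀ i, IsScalarTower A₀ (G i) A]
  (hcolim : FlatCA.IsDirectedColimitRing G (fun i j h => (g i j h).toRingHom) A)
  (B₀ : Type u) [CommRing B₀] [Algebra A₀ B₀]
  (Q : Ideal (B₀ ⊗[A₀] A)) [Q.IsPrime]
  {M₀ N₀ : Type u} [AddCommGroup M₀] [Module B₀ M₀] [AddCommGroup N₀] [Module B₀ N₀]
  (u₀ : M₀ →ₗ[B₀] N₀)

theorem phi_baseChange (j : ι) (x : Ss G A B₀ Q j ⊗[B₀] M₀) :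
    u₀.baseChange (Localization.AtPrime Q) (phi G A B₀ Q M₀ j x) =
      phi G A B₀ Q N₀ j (u₀.baseChange (Ss G A B₀ Q j) x) := by
  induction x using TensorProduct.induction_on with
  | zero => simp
  | tmul s m => simp
  | add x y hx hy => simp only [map_add, hx, hy]

theorem phiG_baseChange (i j : ι) (h : i ≤ j) (x : Ss G A B₀ Q i ⊗[B₀] M₀) :
    u₀.baseChange (Ss G A B₀ Q j) (phiG G g A hcolim B₀ Q M₀ i j h x) =
      phiG G g A hcolim B₀ Q N₀ i j h (u₀.baseChange (Ss G A B₀ Q i) x) := by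
  induction x using TensorProduct.induction_on with
  | zero => simp
  | tmul s m => simp
  | add x y hx hy => simp only [map_add, hx, hy]

end BC

end Groth.Agent.Helper7.InjFib
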