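import Mathlib
import Groth.Agent.Lib.Helper7.InjFib.SysMod

set_option linter.style.haveILetI false
set_option linter.unusedVariables false
set_option linter.unusedSectionVars false
set_option autoImplicit false
set_option backward.isDefEq.respectTransparency.types false
set_option synthInstance.maxHeartbeats 400000
set_option maxHeartbeats 800000

universe u

/-! helper7: ideal-wise injectivity property and its ascent from the stages of a directed colimit -/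

open TensorProduct

namespace Groth.Agent.Helper7.InjFib

open Groth.Agent.Lead.FlatLoc Groth.Agent.Helper3.ColimFlat

attribute [local instance] Algebra.TensorProduct.rightAlgebra

section Defs

variable {A₀ : Type u} [CommRing A₀] (B₀ : Type u) [CommRing B₀] [Algebra A₀ B₀]
  {M₀ N₀ : Type u} [AddCommGroup M₀] [Module B₀ M₀] [AddCommGroup N₀] [Module B₀ N₀]
  (C : Type u) [CommRing C] [Algebra A₀ C] (Q : Ideal (B₀ ⊗[A₀] C)) [Q.IsPrime]
  (u₀ : M₀ →ₗ[B₀] N₀)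

/-- ideal-wise injectivity of the base change of `u₀` to the local ring at `Q` -/
def PropD : Prop :=
  ∀ (J : Ideal C) (x : Localization.AtPrime Q ⊗[B₀] M₀),
    u₀.baseChange (Localization.AtPrime Q) x ∈
      J • (⊤ : Submodule C (Localization.AtPrime Q ⊗[B₀] N₀)) →
    x ∈ J • (⊤ : Submodule C (Localization.AtPrime Q ⊗[B₀] M₀))

/-- injectivity modulo the prime under `Q` of the base change of `u₀` to the local ring at `Q` -/
def PropFib : Prop :=
  ∀ (x : Localization.AtPrime Q ⊗[B₀] M₀),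
    u₀.baseChange (Localization.AtPrime Q) x ∈
      (Q.comap (algebraMap C (B₀ ⊗[A₀] C))) •
        (⊤ : Submodule C (Localization.AtPrime Q ⊗[B₀] N₀)) →
    x ∈ (Q.comap (algebraMap C (B₀ ⊗[A₀] C))) •
      (⊤ : Submodule C (Localization.AtPrime Q ⊗[B₀] M₀))

end Defs

section Colim

variable {A₀ : Type u} [CommRing A₀]
  {ι : Type u} [Preorder ι] (G : ι → Type u) [∀ i, CommRing (G i)]
  [∀ i, Algebra A₀ (G i)] (g : ∀ i j, i ≤ j → G i →ₐ[A₀] G j)
  (A : Type u) [CommRing A] [Algebra A₀ A] [∀ i, Algebra (G i) A] [∀ i, IsScalarTower A₀ (G i) A]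
  (hcolim : FlatCA.IsDirectedColimitRing G (fun i j h => (g i j h).toRingHom) A)
  (B₀ : Type u) [CommRing B₀] [Algebra A₀ B₀]
  (Q : Ideal (B₀ ⊗[A₀] A)) [Q.IsPrime]
  {M₀ N₀ : Type u} [AddCommGroup M₀] [Module B₀ M₀] [AddCommGroup N₀] [Module B₀ N₀]
  (u₀ : M₀ →ₗ[B₀] N₀)

include hcolim in
theorem exists_stage_of_mem_smul_top (J : Ideal A) (y : Localization.AtPrime Q ⊗[B₀] N₀)
    (hy : y ∈ J • (⊤ : Submodule A (Localization.AtPrime Q ⊗[B₀] N₀))) :
    ∃ j, ∃ yj : Ss G A B₀ Q j ⊗[B₀] N₀, phi G A B₀ Q N₀ j yj = y ∧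
      yj ∈ (J.comap (algebraMap (G j) A)) •
        (⊤ : Submodule (G j) (Ss G A B₀ Q j ⊗[B₀] N₀)) := by
  have hcolim' := hcolim
  obtain ⟨hdir, hne, hid, hcomp, hcompat, hsurj, hker⟩ := hcolim'
  haveI := hdir
  refine Submodule.smul_induction_on hy (fun a ha n _ => ?_) (fun y z hy hz => ?_)
  · obtain ⟨j₁, a₁, ha₁⟩ := hsurj a
    obtain ⟨j₂, n₂, hn₂⟩ := phi_surj G g A hcolim B₀ Q N₀ n
    obtain ⟨k, hk₁, hk₂⟩ := exists_ge_ge j₁ j₂
    have hak : algebraMap (G k) A (g j₁ k hk₁ a₁) = a := by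
      have h1 := congrArg (fun φ : G j₁ →+* A => φ a₁) (hcompat j₁ k hk₁)
      simp only [RingHom.comp_apply] at h1
      exact h1.trans ha₁
    refine ⟨k, g j₁ k hk₁ a₁ • phiG G g A hcolim B₀ Q N₀ j₂ k hk₂ n₂, ?_, ?_⟩
    · rw [phi_smul_G, phi_phiG, hak, hn₂]
    · refine Submodule.smul_mem_smul ?_ Submodule.mem_top
      rw [Ideal.mem_comap, hak]
      exact ha
  · obtain ⟨j₁, y₁, rfl, h₁⟩ := hy
    obtain ⟨j₂, y₂, rfl, h₂⟩ := hz
    obtain ⟨k, hk₁, hk₂⟩ := exists_ge_ge j₁ j₂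
    refine ⟨k, phiG G g A hcolim B₀ Q N₀ j₁ k hk₁ y₁ + phiG G g A hcolim B₀ Q N₀ j₂ k hk₂ y₂,
      ?_, ?_⟩
    · rw [map_add, phi_phiG, phi_phiG]
    · exact add_mem (phiG_mem_smul_top G g A hcolim B₀ Q N₀ J j₁ k hk₁ y₁ h₁)
        (phiG_mem_smul_top G g A hcolim B₀ Q N₀ J j₂ k hk₂ y₂ h₂)

include hcolim in
/-- **ascent from the stages**: if the ideal-wise injectivity property holds at all large stages,
it holds in the limit. -/
theorem propD_of_stages (i₀ : ι)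
    (hst : ∀ j, i₀ ≤ j → PropD B₀ (G j) (Qs G A B₀ Q j) u₀) : PropD B₀ A Q u₀ := by
  have hcolim' := hcolim
  obtain ⟨hdir, hne, hid, hcomp, hcompat, hsurj, hker⟩ := hcolim'
  haveI := hdir
  intro J x hx
  obtain ⟨j, yj, hy1, hy2⟩ := exists_stage_of_mem_smul_top G g A hcolim B₀ Q J _ hx
  obtain ⟨i, xi, rfl⟩ := phi_surj G g A hcolim B₀ Q M₀ x
  obtain ⟨k₁, hk₁i, hk₁j⟩ := exists_ge_ge i j
  obtain ⟨k, hkk₁, hki₀⟩ := exists_ge_ge k₁ i₀
  have hik : i ≤ k := hk₁i.trans hkk₁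
  have hjk : j ≤ k := hk₁j.trans hkk₁
  have h0 : phi G A B₀ Q N₀ k
      (u₀.baseChange (Ss G A B₀ Q k) (phiG G g A hcolim B₀ Q M₀ i k hik xi) -
        phiG G g A hcolim B₀ Q N₀ j k hjk yj) = 0 := by
    rw [map_sub, ← phi_baseChange, phi_phiG, phi_phiG, hy1, sub_self]
  obtain ⟨l, hkl, hl⟩ := phi_ker G g A hcolim B₀ Q N₀ k _ h0
  have hil : i ≤ l := hik.trans hkl
  have hjl : j ≤ l := hjk.trans hkl
  have h1 : u₀.baseChange (Ss G A B₀ Q l) (phiG G g A hcolim B₀ Q M₀ i l hil xi) =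
      phiG G g A hcolim B₀ Q N₀ j l hjl yj := by
    rw [map_sub, ← phiG_baseChange, phiG_phiG, phiG_phiG, sub_eq_zero] at hl
    exact hl
  have h2 := hst l (hki₀.trans hkl) (J.comap (algebraMap (G l) A))
    (phiG G g A hcolim B₀ Q M₀ i l hil xi)
    (by rw [h1]; exact phiG_mem_smul_top G g A hcolim B₀ Q N₀ J j l hjl yj hy2)
  rw [← phi_phiG G g A hcolim B₀ Q M₀ i l hil xi]
  exact phi_mem_smul_top G A B₀ Q M₀ J l _ h2

end Colim

end Groth.Agent.Helper7.InjFib
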