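import Mathlib
import Groth.Agent.Lib.Lead.CritFib5

set_option linter.style.haveILetI false
set_option linter.unusedVariables false
set_option linter.unusedSectionVars false
set_option autoImplicit false
set_option backward.isDefEq.respectTransparency.types false
set_option synthInstance.maxHeartbeats 400000
set_option maxHeartbeats 800000

universe u

/-! helper7: flatness of the closed fibre ring over the quotient of a model by the contracted prime -/

open TensorProduct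

namespace Groth.Agent.Helper7.InjFib

open Groth.Agent.Lead.CritFib

section FlatFib

variable {R₁ R X₁ X : Type u} [CommRing R₁] [CommRing R] [CommRing X₁] [CommRing X]
  [Algebra R₁ R] [Algebra R₁ X₁] [Algebra R X] [Algebra X₁ X] [Algebra R₁ X]
  [IsScalarTower R₁ R X] [IsScalarTower R₁ X₁ X] [Algebra.IsPushout R₁ R X₁ X]

set_option backward.isDefEq.respectTransparency false in
set_option maxHeartbeats 1000000 in
/-- the closed fibre ring of `X` over a maximal ideal of `R` is flat over the quotient of the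
model `X₁` by the contraction -/
theorem flat_quotient_quotient (m : Ideal R) [m.IsMaximal] (𝔞 : Ideal X₁)
    (h𝔞 : 𝔞 = (m.comap (algebraMap R₁ R)).map (algebraMap R₁ X₁))
    [Algebra (X₁ ⧸ 𝔞) (X ⧸ m.map (algebraMap R X))]
    (hc : ∀ x : X₁, algebraMap (X₁ ⧸ 𝔞) (X ⧸ m.map (algebraMap R X)) (Ideal.Quotient.mk 𝔞 x) =
      Ideal.Quotient.mk _ (algebraMap X₁ X x)) :
    Module.Flat (X₁ ⧸ 𝔞) (X ⧸ m.map (algebraMap R X)) := by
  subst h𝔞
  let p₁ : Ideal R₁ := m.comap (algebraMap R₁ R)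
  haveI : p₁.IsPrime := Ideal.comap_isPrime _ _
  letI : Field (R ⧸ m) := Ideal.Quotient.field m
  have hker : ∀ x ∈ p₁, algebraMap R₁ (R ⧸ m) x = 0 := by
    intro x hx
    rw [IsScalarTower.algebraMap_apply R₁ R (R ⧸ m)]
    exact Ideal.Quotient.eq_zero_iff_mem.mpr hx
  letI a2 : Algebra (R₁ ⧸ p₁) (R ⧸ m) :=
    (Ideal.Quotient.lift p₁ (algebraMap R₁ (R ⧸ m)) hker).toAlgebra
  haveI t2 : IsScalarTower R₁ (R₁ ⧸ p₁) (R ⧸ m) := .of_algebraMap_eq fun x => rfl
  have hinj : Function.Injective (algebraMap (R₁ ⧸ p₁) (R ⧸ m)) := by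
    apply RingHom.lift_injective_of_ker_le_ideal
    intro x hx
    have : algebraMap R₁ (R ⧸ m) x = 0 := hx
    rw [IsScalarTower.algebraMap_apply R₁ R (R ⧸ m)] at this
    have h2 : algebraMap R₁ R x ∈ m := Ideal.Quotient.eq_zero_iff_mem.mp this
    exact h2
  haveI : Module.Flat (R₁ ⧸ p₁) (R ⧸ m) := flat_of_injective_field hinj
  haveI t3 : IsScalarTower R₁ R (X ⧸ m.map (algebraMap R X)) :=
    .of_algebraMap_eq fun r => by
      rw [IsScalarTower.algebraMap_apply R₁ X, IsScalarTower.algebraMap_apply R₁ R X,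
        ← IsScalarTower.algebraMap_apply R X]
  haveI t3b : IsScalarTower R₁ (R ⧸ m) (X ⧸ m.map (algebraMap R X)) :=
    .of_algebraMap_eq fun r => by
      rw [IsScalarTower.algebraMap_apply R₁ R (X ⧸ m.map (algebraMap R X)),
        IsScalarTower.algebraMap_apply R (R ⧸ m) (X ⧸ m.map (algebraMap R X)),
        ← IsScalarTower.algebraMap_apply R₁ R (R ⧸ m)]
  letI a4 : Algebra (R₁ ⧸ p₁) (X ⧸ m.map (algebraMap R X)) :=
    ((algebraMap (R ⧸ m) (X ⧸ m.map (algebraMap R X))).comp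
      (algebraMap (R₁ ⧸ p₁) (R ⧸ m))).toAlgebra
  haveI t4 : IsScalarTower (R₁ ⧸ p₁) (R ⧸ m) (X ⧸ m.map (algebraMap R X)) :=
    .of_algebraMap_eq' rfl
  haveI t5 : IsScalarTower X₁ (X₁ ⧸ p₁.map (algebraMap R₁ X₁)) (X ⧸ m.map (algebraMap R X)) :=
    .of_algebraMap_eq fun x => by
      rw [IsScalarTower.algebraMap_apply X₁ X]
      exact (hc x).symm
  haveI t6 : IsScalarTower R₁ (X₁ ⧸ p₁.map (algebraMap R₁ X₁)) (X ⧸ m.map (algebraMap R X)) :=
    .of_algebraMap_eq fun r => by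
      rw [IsScalarTower.algebraMap_apply R₁ X₁ (X₁ ⧸ p₁.map (algebraMap R₁ X₁)),
        ← IsScalarTower.algebraMap_apply X₁ (X₁ ⧸ p₁.map (algebraMap R₁ X₁)),
        IsScalarTower.algebraMap_apply R₁ X, IsScalarTower.algebraMap_apply R₁ X₁ X,
        ← IsScalarTower.algebraMap_apply X₁ X]
  haveI t7 : IsScalarTower (R₁ ⧸ p₁) (X₁ ⧸ p₁.map (algebraMap R₁ X₁))
      (X ⧸ m.map (algebraMap R X)) :=
    .of_algebraMap_eq fun r => by
      obtain ⟨r, rfl⟩ := Ideal.Quotient.mk_surjective r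
      show algebraMap (R ⧸ m) _ (algebraMap R₁ (R ⧸ m) r) = _
      rw [← IsScalarTower.algebraMap_apply R₁ (R ⧸ m),
        IsScalarTower.algebraMap_apply R₁ (X₁ ⧸ p₁.map (algebraMap R₁ X₁))]
      rfl
  haveI hq := isPushout_quotient (R := R) (S := X) m
  have hbig : Algebra.IsPushout R₁ (R ⧸ m) X₁ (X ⧸ m.map (algebraMap R X)) :=
    (Algebra.IsPushout.comp_iff R₁ R X₁ (S' := X) (T := R ⧸ m)
      (T' := X ⧸ m.map (algebraMap R X))).mpr inferInstance
  haveI := isPushout_quotient (R := R₁) (S := X₁) p₁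
  have hright : Algebra.IsPushout (R₁ ⧸ p₁) (R ⧸ m) (X₁ ⧸ p₁.map (algebraMap R₁ X₁))
      (X ⧸ m.map (algebraMap R X)) :=
    (Algebra.IsPushout.comp_iff R₁ (R₁ ⧸ p₁) X₁ (S' := X₁ ⧸ p₁.map (algebraMap R₁ X₁))
      (T := R ⧸ m) (T' := X ⧸ m.map (algebraMap R X))).mp hbig
  exact Module.Flat.isBaseChange (R := R₁ ⧸ p₁) (S := X₁ ⧸ p₁.map (algebraMap R₁ X₁))
    (M := R ⧸ m) (X ⧸ m.map (algebraMap R X)) hright.symm.out

end FlatFib

end Groth.Agent.Helper7.InjFib
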