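import Mathlib
import Groth.Agent.Lib.Helper7.InjFib.FibFlat

set_option linter.style.haveILetI false
set_option linter.unusedVariables false
set_option linter.unusedSectionVars false
set_option autoImplicit false
set_option backward.isDefEq.respectTransparency.types false
set_option synthInstance.maxHeartbeats 400000
set_option maxHeartbeats 800000

universe u

/-! helper7: descent of membership in the closed fibre along the flat local map of fibre local rings -/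

open TensorProduct

namespace Groth.Agent.Helper7.InjFib

section Desc

variable {G₁ A T₁ T : Type u} [CommRing G₁] [CommRing A] [CommRing T₁] [CommRing T]
  [Algebra G₁ A] [Algebra G₁ T₁] [Algebra A T] [Algebra T₁ T] [Algebra G₁ T]
  [IsScalarTower G₁ A T] [IsScalarTower G₁ T₁ T] [Algebra.IsPushout G₁ A T₁ T]
  (m : Ideal A) [m.IsMaximal] (Q : Ideal T) [Q.IsPrime] (hQ : Q.comap (algebraMap A T) = m)
  {S₁ S : Type u} [CommRing S₁] [CommRing S] [Algebra T₁ S₁]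
  [IsLocalization.AtPrime S₁ (Q.comap (algebraMap T₁ T))]
  [Algebra T S] [IsLocalization.AtPrime S Q] [Algebra S₁ S] [Algebra T₁ S]
  [IsScalarTower T₁ S₁ S] [IsScalarTower T₁ T S]
  {X₁ X : Type u} [AddCommGroup X₁] [Module S₁ X₁] [AddCommGroup X] [Module S X] [Module S₁ X]
  [IsScalarTower S₁ S X]

include hQ in
set_option maxHeartbeats 1600000 in
/-- **descent of membership in the fibre**: an element of the stage module whose image lies in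
`𝔪 X` already lies in `𝔭₁ X₁`, by faithful flatness of the map of fibre local rings. -/
theorem mem_of_map_mem_fibre (φ : X₁ →ₗ[S₁] X) (hφ : IsBaseChange S φ) (x : X₁)
    (hx : φ x ∈ ((m.map (algebraMap A T)).map (algebraMap T S)) • (⊤ : Submodule S X)) :
    x ∈ (((m.comap (algebraMap G₁ A)).map (algebraMap G₁ T₁)).map (algebraMap T₁ S₁)) •
      (⊤ : Submodule S₁ X₁) := by
  set Q₁ : Ideal T₁ := Q.comap (algebraMap T₁ T) with hQ₁
  set p₁ : Ideal G₁ := m.comap (algebraMap G₁ A) with hp₁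
  set I₁ : Ideal T₁ := p₁.map (algebraMap G₁ T₁) with hI₁
  set I : Ideal T := m.map (algebraMap A T) with hI
  set 𝔞₁ : Ideal S₁ := I₁.map (algebraMap T₁ S₁) with h𝔞₁
  set 𝔞 : Ideal S := I.map (algebraMap T S) with h𝔞
  haveI : IsLocalRing S₁ := IsLocalization.AtPrime.isLocalRing S₁ Q₁
  haveI : IsLocalRing S := IsLocalization.AtPrime.isLocalRing S Q
  -- basic containments
  have hIQ : I ≤ Q := by
    rw [hI, Ideal.map_le_iff_le_comap, hQ]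
  have hI₁Q₁ : I₁ ≤ Q₁ := by
    rw [hI₁, Ideal.map_le_iff_le_comap]
    intro g hg
    rw [Ideal.mem_comap, hQ₁, Ideal.mem_comap, ← IsScalarTower.algebraMap_apply G₁ T₁ T,
      IsScalarTower.algebraMap_apply G₁ A T]
    exact hIQ (Ideal.mem_map_of_mem _ hg)
  have h𝔞max : 𝔞 ≤ IsLocalRing.maximalIdeal S := by
    rw [← IsLocalization.AtPrime.map_eq_maximalIdeal Q S]
    exact Ideal.map_mono hIQ
  have h𝔞₁max : 𝔞₁ ≤ IsLocalRing.maximalIdeal S₁ := by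
    rw [← IsLocalization.AtPrime.map_eq_maximalIdeal Q₁ S₁]
    exact Ideal.map_mono hI₁Q₁
  have hI₁I : I₁ ≤ I.comap (algebraMap T₁ T) := by
    rw [hI₁, Ideal.map_le_iff_le_comap]
    intro g hg
    rw [Ideal.mem_comap, Ideal.mem_comap, ← IsScalarTower.algebraMap_apply G₁ T₁ T,
      IsScalarTower.algebraMap_apply G₁ A T]
    exact Ideal.mem_map_of_mem _ hg
  have hle : 𝔞₁ ≤ 𝔞.comap (algebraMap S₁ S) := by
    rw [h𝔞₁, Ideal.map_le_iff_le_comap]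
    intro t ht
    rw [Ideal.mem_comap, Ideal.mem_comap, ← IsScalarTower.algebraMap_apply T₁ S₁ S,
      IsScalarTower.algebraMap_apply T₁ T S]
    exact Ideal.mem_map_of_mem _ (hI₁I ht)
  -- the quotient rings
  letI aF : Algebra (S₁ ⧸ 𝔞₁) (S ⧸ 𝔞) := (Ideal.quotientMap 𝔞 (algebraMap S₁ S) hle).toAlgebra
  have hρ : ∀ s : S₁, algebraMap (S₁ ⧸ 𝔞₁) (S ⧸ 𝔞) (Ideal.Quotient.mk 𝔞₁ s) =
      Ideal.Quotient.mk 𝔞 (algebraMap S₁ S s) := fun s => rfl
  letI aT : Algebra (T₁ ⧸ I₁) (T ⧸ I) := (Ideal.quotientMap I (algebraMap T₁ T) hI₁I).toAlgebra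
  haveI fT : Module.Flat (T₁ ⧸ I₁) (T ⧸ I) := flat_quotient_quotient m I₁ rfl (fun x => rfl)
  letI aTF : Algebra (T₁ ⧸ I₁) (S ⧸ 𝔞) :=
    ((algebraMap (T ⧸ I) (S ⧸ 𝔞)).comp (algebraMap (T₁ ⧸ I₁) (T ⧸ I))).toAlgebra
  haveI tw1 : IsScalarTower (T₁ ⧸ I₁) (T ⧸ I) (S ⧸ 𝔞) := .of_algebraMap_eq' rfl
  haveI fTF : Module.Flat (T ⧸ I) (S ⧸ 𝔞) :=
    IsLocalization.flat (S ⧸ 𝔞) (Algebra.algebraMapSubmonoid (T ⧸ I) Q.primeCompl)
  haveI fT₁F : Module.Flat (T₁ ⧸ I₁) (S ⧸ 𝔞) := Module.Flat.trans (T₁ ⧸ I₁) (T ⧸ I) (S ⧸ 𝔞)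
  haveI tw2 : IsScalarTower (T₁ ⧸ I₁) (S₁ ⧸ 𝔞₁) (S ⧸ 𝔞) := .of_algebraMap_eq fun t => by
    obtain ⟨t, rfl⟩ := Ideal.Quotient.mk_surjective t
    show algebraMap (T ⧸ I) (S ⧸ 𝔞) (Ideal.Quotient.mk I (algebraMap T₁ T t)) =
      algebraMap (S₁ ⧸ 𝔞₁) (S ⧸ 𝔞) (algebraMap (T₁ ⧸ I₁) (S₁ ⧸ 𝔞₁) (Ideal.Quotient.mk I₁ t))
    rw [Ideal.Quotient.algebraMap_quotient_map_quotient,
      Ideal.Quotient.algebraMap_quotient_map_quotient, hρ,
      ← IsScalarTower.algebraMap_apply T₁ S₁ S, IsScalarTower.algebraMap_apply T₁ T S]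
  haveI fF : Module.Flat (S₁ ⧸ 𝔞₁) (S ⧸ 𝔞) :=
    (Module.flat_iff_of_isLocalization (S₁ ⧸ 𝔞₁)
      (Algebra.algebraMapSubmonoid (T₁ ⧸ I₁) Q₁.primeCompl) (S ⧸ 𝔞)).mpr fT₁F
  -- local rings and local homomorphisms
  haveI : Nontrivial (S₁ ⧸ 𝔞₁) := Ideal.Quotient.nontrivial_iff.mpr
    (fun h => (IsLocalRing.maximalIdeal.isMaximal S₁).ne_top (top_le_iff.mp (h ▸ h𝔞₁max)))
  haveI : Nontrivial (S ⧸ 𝔞) := Ideal.Quotient.nontrivial_iff.mpr
    (fun h => (IsLocalRing.maximalIdeal.isMaximal S).ne_top (top_le_iff.mp (h ▸ h𝔞max)))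
  haveI : IsLocalRing (S₁ ⧸ 𝔞₁) :=
    IsLocalRing.of_surjective' (Ideal.Quotient.mk 𝔞₁) Ideal.Quotient.mk_surjective
  haveI : IsLocalRing (S ⧸ 𝔞) :=
    IsLocalRing.of_surjective' (Ideal.Quotient.mk 𝔞) Ideal.Quotient.mk_surjective
  haveI lσ : IsLocalHom (algebraMap S₁ S) := by
    refine ⟨fun s hs => ?_⟩
    obtain ⟨t, v, rfl⟩ := IsLocalization.exists_mk'_eq Q₁.primeCompl s
    have h1 : algebraMap S₁ S (IsLocalization.mk' S₁ t v) * algebraMap S₁ S (algebraMap T₁ S₁ v) =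
        algebraMap T S (algebraMap T₁ T t) := by
      rw [← map_mul, IsLocalization.mk'_spec, ← IsScalarTower.algebraMap_apply T₁ S₁ S,
        IsScalarTower.algebraMap_apply T₁ T S]
    have h2 : IsUnit (algebraMap T S (algebraMap T₁ T t)) := by
      rw [← h1]
      exact hs.mul ((IsLocalization.map_units S₁ v).map _)
    rw [IsLocalization.AtPrime.isUnit_to_map_iff S Q] at h2
    rw [IsLocalization.AtPrime.isUnit_mk'_iff S₁ Q₁]
    exact h2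
  haveI lmk : IsLocalHom (Ideal.Quotient.mk 𝔞) :=
    IsLocalHom.of_surjective _ Ideal.Quotient.mk_surjective
  haveI lF : IsLocalHom (algebraMap (S₁ ⧸ 𝔞₁) (S ⧸ 𝔞)) := by
    refine ⟨fun s hs => ?_⟩
    obtain ⟨s, rfl⟩ := Ideal.Quotient.mk_surjective s
    rw [hρ] at hs
    have h1 : IsUnit (algebraMap S₁ S s) := IsUnit.of_map (Ideal.Quotient.mk 𝔞) _ hs
    exact (IsUnit.of_map (algebraMap S₁ S) s h1).map _
  haveI : Module.FaithfullyFlat (S₁ ⧸ 𝔞₁) (S ⧸ 𝔞) := Module.FaithfullyFlat.of_flat_of_isLocalHom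
  -- the comparison map
  let Z₁ := X₁ ⧸ (𝔞₁ • (⊤ : Submodule S₁ X₁))
  let W := (S ⧸ 𝔞) ⊗[S₁ ⧸ 𝔞₁] Z₁
  haveI : SMulCommClass (S₁ ⧸ 𝔞₁) S (S ⧸ 𝔞) := ⟨fun a s f => by
    simp only [Algebra.smul_def]
    ring⟩
  haveI : SMulCommClass (S₁ ⧸ 𝔞₁) S₁ (S ⧸ 𝔞) := ⟨fun a s f => by
    simp only [Algebra.smul_def]
    ring⟩
  let ψ : X₁ →ₗ[S₁] W :=
    { toFun := fun y => (1 : S ⧸ 𝔞) ⊗ₜ[S₁ ⧸ 𝔞₁] (Submodule.Quotient.mk y : Z₁)
      map_add' := fun y z => by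
        rw [Submodule.Quotient.mk_add, TensorProduct.tmul_add]
      map_smul' := fun s y => by
        rw [RingHom.id_apply]
        show (1 : S ⧸ 𝔞) ⊗ₜ[S₁ ⧸ 𝔞₁] (Submodule.Quotient.mk (s • y) : Z₁) =
          s • ((1 : S ⧸ 𝔞) ⊗ₜ[S₁ ⧸ 𝔞₁] (Submodule.Quotient.mk y : Z₁))
        rw [← Module.Quotient.mk_smul_mk, ← TensorProduct.smul_tmul, TensorProduct.smul_tmul',
          Algebra.smul_def, mul_one, hρ, Algebra.smul_def, mul_one]
        rfl }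
  let Ψ : X →ₗ[S] W := hφ.lift ψ
  have hΨ : Ψ (φ x) = ψ x := hφ.lift_eq ψ x
  have hkill : ∀ (a : S), a ∈ 𝔞 → ∀ w : W, a • w = 0 := by
    intro a ha w
    induction w using TensorProduct.induction_on with
    | zero => simp
    | tmul f z =>
      rw [TensorProduct.smul_tmul', Algebra.smul_def]
      have : algebraMap S (S ⧸ 𝔞) a = 0 := Ideal.Quotient.eq_zero_iff_mem.mpr ha
      rw [this, zero_mul, TensorProduct.zero_tmul]
    | add w₁ w₂ h₁ h₂ => rw [smul_add, h₁, h₂, add_zero]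
  have hΨ0 : Ψ (φ x) = 0 := by
    refine Submodule.smul_induction_on hx (fun a ha y _ => ?_) (fun y z hy hz => ?_)
    · rw [map_smul]
      exact hkill a ha _
    · rw [map_add, hy, hz, add_zero]
  have h0 : (1 : S ⧸ 𝔞) ⊗ₜ[S₁ ⧸ 𝔞₁] (Submodule.Quotient.mk x : Z₁) = 0 := by
    rw [← hΨ0, hΨ]
    rfl
  have hinj := Module.FaithfullyFlat.tensorProduct_mk_injective (A := S₁ ⧸ 𝔞₁) (B := S ⧸ 𝔞) Z₁
  have h1 : (Submodule.Quotient.mk x : Z₁) = 0 := by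
    apply hinj
    rw [map_zero]
    exact h0
  exact (Submodule.Quotient.mk_eq_zero _).mp h1

end Desc

end Groth.Agent.Helper7.InjFib
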