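import Mathlib
import Groth.Agent.Lib.Helper7.InjFib.Basic
import Groth.Agent.Lib.Helper7.InjFib.FibDesc
import Groth.Agent.Lib.Helper7.InjFib.Colim

set_option linter.style.haveILetI false
set_option linter.unusedVariables false
set_option linter.unusedSectionVars false
set_option autoImplicit false
set_option backward.isDefEq.respectTransparency.types false
set_option synthInstance.maxHeartbeats 400000
set_option maxHeartbeats 800000

universe u

/-! helper7: helper7: the core statement: fibre-wise injectivity implies ideal-wise injectivity, over a directed colimit of Noetherian rings -/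

open TensorProduct

namespace Groth.Agent.Helper7.InjFib

open Groth.Agent.Lead.FlatLoc Groth.Agent.Helper3.ColimFlat

attribute [local instance] Algebra.TensorProduct.rightAlgebra

section Noeth

variable {A₀ : Type u} [CommRing A₀] (B₀ : Type u) [CommRing B₀] [Algebra A₀ B₀]
  [Algebra.FiniteType A₀ B₀]
  {M₀ N₀ : Type u} [AddCommGroup M₀] [Module B₀ M₀] [Module.Finite B₀ M₀]
  [AddCommGroup N₀] [Module B₀ N₀]
  (C : Type u) [CommRing C] [Algebra A₀ C] [IsNoetherianRing C]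
  (Q : Ideal (B₀ ⊗[A₀] C)) [Q.IsPrime] (u₀ : M₀ →ₗ[B₀] N₀)

/-- the Noetherian case -/
theorem propD_of_noeth [Module.Flat C (Localization.AtPrime Q ⊗[B₀] N₀)]
    (hfib : PropFib B₀ C Q u₀) : PropD B₀ C Q u₀ := by
  haveI : Algebra.FiniteType C (B₀ ⊗[A₀] C) := finiteType_tensor_right (A₀ := A₀) (B₀ := B₀) C
  haveI : IsNoetherianRing (B₀ ⊗[A₀] C) := Algebra.FiniteType.isNoetherianRing C _
  haveI : IsNoetherianRing (Localization.AtPrime Q) :=
    IsLocalization.isNoetherianRing Q.primeCompl _ inferInstance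
  have hp : (IsLocalRing.maximalIdeal (Localization.AtPrime Q)).comap
      (algebraMap C (Localization.AtPrime Q)) = Q.comap (algebraMap C (B₀ ⊗[A₀] C)) := by
    rw [IsScalarTower.algebraMap_eq C (B₀ ⊗[A₀] C) (Localization.AtPrime Q), ← Ideal.comap_comap]
    exact congrArg (Ideal.comap (algebraMap C (B₀ ⊗[A₀] C)))
      (IsLocalization.AtPrime.under_maximalIdeal (Localization.AtPrime Q) Q)
  have key := mem_smul_top_of_noeth (G := C) (S := Localization.AtPrime Q)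
    (X := Localization.AtPrime Q ⊗[B₀] M₀) (Y := Localization.AtPrime Q ⊗[B₀] N₀)
    (u₀.baseChange (Localization.AtPrime Q))
  rw [hp] at key
  exact key hfib

end Noeth

section Stage

variable {A₀ : Type u} [CommRing A₀]
  {ι : Type u} [Preorder ι] (G : ι → Type u) [∀ i, CommRing (G i)]
  [∀ i, Algebra A₀ (G i)] (g : ∀ i j, i ≤ j → G i →ₐ[A₀] G j)
  (A : Type u) [CommRing A] [Algebra A₀ A] [∀ i, Algebra (G i) A] [∀ i, IsScalarTower A₀ (G i) A]
  (hcolim : FlatCA.IsDirectedColimitRing G (fun i j h => (g i j h).toRingHom) A)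
  (B₀ : Type u) [CommRing B₀] [Algebra A₀ B₀]
  (Q : Ideal (B₀ ⊗[A₀] A)) [Q.IsPrime]
  {M₀ N₀ : Type u} [AddCommGroup M₀] [Module B₀ M₀] [AddCommGroup N₀] [Module B₀ N₀]
  (u₀ : M₀ →ₗ[B₀] N₀)

theorem Qs_comap_G (j : ι) :
    (Qs G A B₀ Q j).comap (algebraMap (G j) (B₀ ⊗[A₀] G j)) =
      (Q.comap (algebraMap A (B₀ ⊗[A₀] A))).comap (algebraMap (G j) A) := by
  ext a
  simp only [Ideal.mem_comap]
  rfl

set_option maxHeartbeats 1600000 in
/-- the fibre property descends from the limit to every stage, when `Q` lies over a maximal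
ideal -/
theorem propFib_stage (m : Ideal A) [m.IsMaximal]
    (hQm : Q.comap (algebraMap A (B₀ ⊗[A₀] A)) = m)
    (hfib : PropFib B₀ A Q u₀) (j : ι) : PropFib B₀ (G j) (Qs G A B₀ Q j) u₀ := by
  intro x hx
  have h1 : u₀.baseChange (Localization.AtPrime Q) (phi G A B₀ Q M₀ j x) ∈
      (Q.comap (algebraMap A (B₀ ⊗[A₀] A))) •
        (⊤ : Submodule A (Localization.AtPrime Q ⊗[B₀] N₀)) := by
    rw [phi_baseChange]
    refine phi_mem_smul_top G A B₀ Q N₀ _ j _ ?_
    rw [← Qs_comap_G]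
    exact hx
  have h2 := hfib _ h1
  rw [hQm] at h2
  rw [Qs_comap_G, hQm]
  -- the algebra structures
  letI aT : Algebra (B₀ ⊗[A₀] G j) (B₀ ⊗[A₀] A) := (tmap G A B₀ j).toRingHom.toAlgebra
  letI aGT : Algebra (G j) (B₀ ⊗[A₀] A) :=
    ((algebraMap A (B₀ ⊗[A₀] A)).comp (algebraMap (G j) A)).toAlgebra
  haveI t1 : IsScalarTower (G j) A (B₀ ⊗[A₀] A) := IsScalarTower.of_algebraMap_eq fun _ => rfl
  haveI t2 : IsScalarTower (G j) (B₀ ⊗[A₀] G j) (B₀ ⊗[A₀] A) :=
    IsScalarTower.of_algebraMap_eq fun _ => rfl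
  haveI t3 : IsScalarTower A₀ (B₀ ⊗[A₀] G j) (B₀ ⊗[A₀] A) :=
    IsScalarTower.of_algebraMap_eq fun a => ((tmap G A B₀ j).commutes a).symm
  haveI t4 : IsScalarTower B₀ (B₀ ⊗[A₀] G j) (B₀ ⊗[A₀] A) :=
    IsScalarTower.of_algebraMap_eq fun b => by
      show (algebraMap B₀ (B₀ ⊗[A₀] A)) b = tmap G A B₀ j (algebraMap B₀ (B₀ ⊗[A₀] G j) b)
      simp [Algebra.TensorProduct.algebraMap_apply]
  haveI t5 : IsScalarTower A₀ A (B₀ ⊗[A₀] A) := inferInstance
  haveI t6 : IsScalarTower A₀ B₀ (B₀ ⊗[A₀] A) := inferInstance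
  haveI hpo : Algebra.IsPushout (G j) A (B₀ ⊗[A₀] G j) (B₀ ⊗[A₀] A) :=
    (Algebra.IsPushout.comp_iff A₀ (G j) B₀ (B₀ ⊗[A₀] G j) (T := A) (T' := B₀ ⊗[A₀] A)).mp
      inferInstance
  haveI hloc1 : IsLocalization.AtPrime (Ss G A B₀ Q j)
      (Q.comap (algebraMap (B₀ ⊗[A₀] G j) (B₀ ⊗[A₀] A))) :=
    (inferInstance : IsLocalization.AtPrime (Ss G A B₀ Q j) (Qs G A B₀ Q j))
  letI aS : Algebra (Ss G A B₀ Q j) (Localization.AtPrime Q) := (sig G A B₀ Q j).toAlgebra
  haveI t7 : IsScalarTower (B₀ ⊗[A₀] G j) (B₀ ⊗[A₀] A) (Localization.AtPrime Q) := inferInstance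
  haveI t8 : IsScalarTower (B₀ ⊗[A₀] G j) (Ss G A B₀ Q j) (Localization.AtPrime Q) :=
    IsScalarTower.of_algebraMap_eq fun t => by
      rw [IsScalarTower.algebraMap_apply (B₀ ⊗[A₀] G j) (B₀ ⊗[A₀] A) (Localization.AtPrime Q)]
      exact (sig_algebraMap G A B₀ Q j t).symm
  haveI t9 : IsScalarTower B₀ (Ss G A B₀ Q j) (Localization.AtPrime Q) :=
    IsScalarTower.of_algebraMap_eq fun b => (sig_algebraMap_B₀ G A B₀ Q j b).symm
  let φ : Ss G A B₀ Q j ⊗[B₀] M₀ →ₗ[Ss G A B₀ Q j] Localization.AtPrime Q ⊗[B₀] M₀ :=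
    { toFun := phi G A B₀ Q M₀ j
      map_add' := map_add _
      map_smul' := fun s y => by
        rw [RingHom.id_apply, phi_smul, ← algebraMap_smul (Localization.AtPrime Q) s]
        rfl }
  have hφ : IsBaseChange (Localization.AtPrime Q) φ := by
    refine IsBaseChange.of_comp (TensorProduct.isBaseChange B₀ M₀ (Ss G A B₀ Q j)) ?_
    convert TensorProduct.isBaseChange B₀ M₀ (Localization.AtPrime Q) using 1
    refine LinearMap.ext fun y => ?_
    simp [φ, map_one]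
  have h4 := mem_of_map_mem_fibre (G₁ := G j) (A := A) (T₁ := B₀ ⊗[A₀] G j) (T := B₀ ⊗[A₀] A)
    m Q hQm (S₁ := Ss G A B₀ Q j) (S := Localization.AtPrime Q)
    (X₁ := Ss G A B₀ Q j ⊗[B₀] M₀) (X := Localization.AtPrime Q ⊗[B₀] M₀)
  have h5 := h4 φ hφ x
  have h6 := h5 (by
    rw [Ideal.map_map, ← IsScalarTower.algebraMap_eq A (B₀ ⊗[A₀] A) (Localization.AtPrime Q)]
    exact (mem_map_smul_top_iff (R := A) (S := Localization.AtPrime Q) m (φ x)).mpr h2)
  rw [Ideal.map_map, ← IsScalarTower.algebraMap_eq (G j) (B₀ ⊗[A₀] G j) (Ss G A B₀ Q j)] at h6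
  exact (mem_map_smul_top_iff (R := G j) (S := Ss G A B₀ Q j) _ x).mp h6

end Stage

section Core

variable {A₀ : Type u} [CommRing A₀] [IsNoetherianRing A₀]
  {ι : Type u} [Preorder ι] (G : ι → Type u) [∀ i, CommRing (G i)]
  [∀ i, Algebra A₀ (G i)] [∀ i, IsNoetherianRing (G i)] (g : ∀ i j, i ≤ j → G i →ₐ[A₀] G j)
  (A : Type u) [CommRing A] [Algebra A₀ A] [∀ i, Algebra (G i) A] [∀ i, IsScalarTower A₀ (G i) A]
  (hcolim : FlatCA.IsDirectedColimitRing G (fun i j h => (g i j h).toRingHom) A)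
  (B₀ : Type u) [CommRing B₀] [Algebra A₀ B₀] [Algebra.FiniteType A₀ B₀]
  (Q : Ideal (B₀ ⊗[A₀] A)) [Q.IsPrime]
  {M₀ N₀ : Type u} [AddCommGroup M₀] [Module B₀ M₀] [Module.Finite B₀ M₀]
  [AddCommGroup N₀] [Module B₀ N₀] [Module.Finite B₀ N₀]
  (u₀ : M₀ →ₗ[B₀] N₀)

include hcolim in
/-- **the core statement**: over a directed colimit `A` of Noetherian rings, at a prime `Q` of
`B₀ ⊗ A` over a maximal ideal `m` of `A`, with the target flat over `A` at `Q`: injectivity modulo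
`m` implies the ideal-wise injectivity property for all ideals of `A`. -/
theorem core (m : Ideal A) [m.IsMaximal] (hQm : Q.comap (algebraMap A (B₀ ⊗[A₀] A)) = m)
    [Module.Flat A (Localization.AtPrime Q ⊗[B₀] N₀)]
    (hfib : PropFib B₀ A Q u₀) : PropD B₀ A Q u₀ := by
  letI : Module A₀ N₀ := Module.compHom N₀ (algebraMap A₀ B₀)
  haveI : IsScalarTower A₀ B₀ N₀ := IsScalarTower.of_algebraMap_smul fun _ _ => rfl
  obtain ⟨i₀, hi₀⟩ := exists_stage_flat_at G g A hcolim B₀ N₀ Q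
  refine propD_of_stages G g A hcolim B₀ Q u₀ i₀ fun j hj => ?_
  haveI := hi₀ j hj
  exact propD_of_noeth B₀ (G j) (Qs G A B₀ Q j) u₀ (propFib_stage G A B₀ Q u₀ m hQm hfib j)

end Core

end Groth.Agent.Helper7.InjFib
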