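import Mathlib
import Groth.Agent.Lib.Helper7.InjFib.Core
import Groth.Agent.Lib.Lead.FlatLoc10
import Groth.Agent.Lib.Helper3.ColimFlat10

set_option linter.style.haveILetI false
set_option linter.unusedVariables false
set_option linter.unusedSectionVars false
set_option autoImplicit false
set_option backward.isDefEq.respectTransparency.types false
set_option synthInstance.maxHeartbeats 400000
set_option maxHeartbeats 800000

universe u

/-! helper7: transport of the core statement to a model situation (pushout square, abstract local ring) -/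

open TensorProduct

namespace Groth.Agent.Helper7.InjFib

open Groth.Agent.Lead.FlatLoc Groth.Agent.Helper3.ColimFlat

attribute [local instance] Algebra.TensorProduct.rightAlgebra

/-- membership in `J • ⊤` is invariant under linear equivalences -/
theorem mem_smul_top_equiv {R X Y : Type*} [CommRing R] [AddCommGroup X] [Module R X]
    [AddCommGroup Y] [Module R Y] (e : X ≃ₗ[R] Y) (J : Ideal R) (x : X) :
    e x ∈ J • (⊤ : Submodule R Y) ↔ x ∈ J • (⊤ : Submodule R X) := by
  have h : (J • (⊤ : Submodule R X)).map e.toLinearMap = J • (⊤ : Submodule R Y) := by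
    rw [Submodule.map_smul'', Submodule.map_top, LinearEquiv.range]
  rw [← h]
  exact ⟨fun ⟨y, hy, hxy⟩ => by rwa [← e.injective hxy], fun hx => ⟨x, hx, rfl⟩⟩

section Top

variable (R₂ R S₂ S : Type u) [CommRing R₂] [CommRing R] [CommRing S₂] [CommRing S]
  [Algebra R₂ R] [Algebra R₂ S₂] [Algebra R S] [Algebra S₂ S] [Algebra R₂ S]
  [IsScalarTower R₂ R S] [IsScalarTower R₂ S₂ S] [Algebra.IsPushout R₂ R S₂ S]
  (q : Ideal S) [q.IsPrime]
  (L : Type u) [CommRing L] [Algebra S L] [IsLocalization.AtPrime L q] [Algebra R L]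
  [IsScalarTower R S L] [Algebra S₂ L] [IsScalarTower S₂ S L]

/-- the ring isomorphism `S₂ ⊗ R ≃ S` -/
noncomputable def tensorEquiv₀ : (S₂ ⊗[R₂] R) ≃+* S :=
  RingEquiv.ofBijective (tensorHom R₂ R S₂ S) (tensorHom_bijective R₂ R S₂ S)

theorem primeCompl_map :
    (q.comap (tensorHom R₂ R S₂ S)).primeCompl.map (tensorEquiv₀ R₂ R S₂ S).toMonoidHom =
      q.primeCompl := by
  ext x
  constructor
  · rintro ⟨y, hy, rfl⟩
    exact hy
  · intro hx
    refine ⟨(tensorEquiv₀ R₂ R S₂ S).symm x, ?_, (tensorEquiv₀ R₂ R S₂ S).apply_symm_apply x⟩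
    show (tensorEquiv₀ R₂ R S₂ S).symm x ∉ q.comap (tensorHom R₂ R S₂ S)
    intro hmem
    apply hx
    have : tensorHom R₂ R S₂ S ((tensorEquiv₀ R₂ R S₂ S).symm x) ∈ q := hmem
    rwa [show tensorHom R₂ R S₂ S ((tensorEquiv₀ R₂ R S₂ S).symm x) = x from
      (tensorEquiv₀ R₂ R S₂ S).apply_symm_apply x] at this

/-- the isomorphism of local rings -/
noncomputable def locEquiv : Localization.AtPrime (q.comap (tensorHom R₂ R S₂ S)) ≃+* L :=
  IsLocalization.ringEquivOfRingEquiv (Localization.AtPrime (q.comap (tensorHom R₂ R S₂ S))) L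
    (tensorEquiv₀ R₂ R S₂ S) (primeCompl_map R₂ R S₂ S q)

theorem locEquiv_algebraMap (x : S₂ ⊗[R₂] R) :
    locEquiv R₂ R S₂ S q L (algebraMap _ _ x) = algebraMap S L (tensorHom R₂ R S₂ S x) :=
  IsLocalization.ringEquivOfRingEquiv_eq _ _

theorem locEquiv_smul_S₂ (s : S₂) (l : Localization.AtPrime (q.comap (tensorHom R₂ R S₂ S))) :
    locEquiv R₂ R S₂ S q L (s • l) = s • locEquiv R₂ R S₂ S q L l := by
  rw [Algebra.smul_def, Algebra.smul_def, map_mul,
    IsScalarTower.algebraMap_apply S₂ (S₂ ⊗[R₂] R) (Localization.AtPrime _), locEquiv_algebraMap,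
    IsScalarTower.algebraMap_apply S₂ S L]
  congr 2
  rw [Algebra.TensorProduct.algebraMap_apply]
  simp

theorem locEquiv_smul_R (r : R) (l : Localization.AtPrime (q.comap (tensorHom R₂ R S₂ S))) :
    locEquiv R₂ R S₂ S q L (r • l) = r • locEquiv R₂ R S₂ S q L l := by
  rw [Algebra.smul_def, Algebra.smul_def, map_mul,
    IsScalarTower.algebraMap_apply R (S₂ ⊗[R₂] R) (Localization.AtPrime _), locEquiv_algebraMap,
    IsScalarTower.algebraMap_apply R S L]
  congr 2
  rw [Algebra.TensorProduct.algebraMap_eq_includeRight]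
  simp

/-- the isomorphism of local rings, as an `S₂`-linear equivalence -/
noncomputable def locEquivL : Localization.AtPrime (q.comap (tensorHom R₂ R S₂ S)) ≃ₗ[S₂] L :=
  { (locEquiv R₂ R S₂ S q L).toAddEquiv with map_smul' := locEquiv_smul_S₂ R₂ R S₂ S q L }

variable (M₂ : Type u) [AddCommGroup M₂] [Module S₂ M₂]

/-- the induced isomorphism of base-changed modules, over `S₂` -/
noncomputable def tensorLocEquiv₀ :
    Localization.AtPrime (q.comap (tensorHom R₂ R S₂ S)) ⊗[S₂] M₂ ≃ₗ[S₂] L ⊗[S₂] M₂ :=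
  TensorProduct.congr (locEquivL R₂ R S₂ S q L) (LinearEquiv.refl S₂ M₂)

theorem tensorLocEquiv₀_tmul (l : Localization.AtPrime (q.comap (tensorHom R₂ R S₂ S))) (m : M₂) :
    tensorLocEquiv₀ R₂ R S₂ S q L M₂ (l ⊗ₜ m) = locEquiv R₂ R S₂ S q L l ⊗ₜ m := rfl

theorem tensorLocEquiv₀_smul_R (r : R)
    (x : Localization.AtPrime (q.comap (tensorHom R₂ R S₂ S)) ⊗[S₂] M₂) :
    tensorLocEquiv₀ R₂ R S₂ S q L M₂ (r • x) = r • tensorLocEquiv₀ R₂ R S₂ S q L M₂ x := by
  induction x using TensorProduct.induction_on with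
  | zero => simp
  | tmul l m =>
    rw [TensorProduct.smul_tmul', tensorLocEquiv₀_tmul, tensorLocEquiv₀_tmul,
      TensorProduct.smul_tmul', locEquiv_smul_R]
  | add x y hx hy => simp only [smul_add, map_add, hx, hy]

/-- the induced isomorphism of base-changed modules, over `R` -/
noncomputable def tensorLocEquiv :
    Localization.AtPrime (q.comap (tensorHom R₂ R S₂ S)) ⊗[S₂] M₂ ≃ₗ[R] L ⊗[S₂] M₂ :=
  { (tensorLocEquiv₀ R₂ R S₂ S q L M₂).toAddEquiv with
    map_smul' := tensorLocEquiv₀_smul_R R₂ R S₂ S q L M₂ }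

theorem tensorLocEquiv_tmul (l : Localization.AtPrime (q.comap (tensorHom R₂ R S₂ S))) (m : M₂) :
    tensorLocEquiv R₂ R S₂ S q L M₂ (l ⊗ₜ m) = locEquiv R₂ R S₂ S q L l ⊗ₜ m := rfl

variable {M₂} {N₂ : Type u} [AddCommGroup N₂] [Module S₂ N₂] (u₂ : M₂ →ₗ[S₂] N₂)

theorem tensorLocEquiv_baseChange
    (x : Localization.AtPrime (q.comap (tensorHom R₂ R S₂ S)) ⊗[S₂] M₂) :
    tensorLocEquiv R₂ R S₂ S q L N₂ (u₂.baseChange _ x) =
      u₂.baseChange L (tensorLocEquiv R₂ R S₂ S q L M₂ x) := by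
  induction x using TensorProduct.induction_on with
  | zero => simp
  | tmul l m => simp [tensorLocEquiv_tmul]
  | add x y hx hy => simp only [map_add, hx, hy]

end Top

section Model

variable (R₂ R S₂ S : Type u) [CommRing R₂] [CommRing R] [CommRing S₂] [CommRing S]
  [IsNoetherianRing R₂]
  [Algebra R₂ R] [Algebra R₂ S₂] [Algebra.FiniteType R₂ S₂] [Algebra R S] [Algebra S₂ S]
  [Algebra R₂ S]
  [IsScalarTower R₂ R S] [IsScalarTower R₂ S₂ S] [Algebra.IsPushout R₂ R S₂ S]
  (q : Ideal S) [q.IsPrime] (m : Ideal R) [m.IsMaximal]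
  (L : Type u) [CommRing L] [Algebra S L] [IsLocalization.AtPrime L q] [Algebra R L]
  [IsScalarTower R S L] [Algebra S₂ L] [IsScalarTower S₂ S L]
  {M₂ N₂ : Type u} [AddCommGroup M₂] [Module S₂ M₂] [Module.Finite S₂ M₂]
  [AddCommGroup N₂] [Module S₂ N₂] [Module.Finite S₂ N₂] (u₂ : M₂ →ₗ[S₂] N₂)

include R₂ in
/-- **the core statement for a model**: `S` is the base change to `R` of a finite type algebra
`S₂` over a Noetherian ring `R₂`, `L` is the local ring of `S` at a prime `q` over a maximal ideal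
`m` of `R`, and `u₂` is a map of finite `S₂`-modules whose target becomes flat over `R` after base
change to `L`. If the base change of `u₂` to `L` is injective modulo `m`, it is injective modulo
every ideal of `R`. -/
theorem core_model (hqm : q.comap (algebraMap R S) = m)
    [Module.Flat R (L ⊗[S₂] N₂)]
    (hfib : ∀ x : L ⊗[S₂] M₂, u₂.baseChange L x ∈ m • (⊤ : Submodule R (L ⊗[S₂] N₂)) →
      x ∈ m • (⊤ : Submodule R (L ⊗[S₂] M₂)))
    (J : Ideal R) (x : L ⊗[S₂] M₂)
    (hx : u₂.baseChange L x ∈ J • (⊤ : Submodule R (L ⊗[S₂] N₂))) :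
    x ∈ J • (⊤ : Submodule R (L ⊗[S₂] M₂)) := by
  haveI : ∀ i : FGSub R₂ R, IsNoetherianRing ↥i.1 := isNoetherianRing_fgSub R₂ R
  have hQm : (q.comap (tensorHom R₂ R S₂ S)).comap (algebraMap R (S₂ ⊗[R₂] R)) = m := by
    rw [← hqm]
    ext r
    simp only [Ideal.mem_comap]
    have : tensorHom R₂ R S₂ S (algebraMap R (S₂ ⊗[R₂] R) r) = algebraMap R S r := by
      rw [Algebra.TensorProduct.algebraMap_eq_includeRight]
      simp
    rw [this]
  haveI : Module.Flat R (Localization.AtPrime (q.comap (tensorHom R₂ R S₂ S)) ⊗[S₂] N₂) :=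
    Module.Flat.of_linearEquiv (tensorLocEquiv R₂ R S₂ S q L N₂)
  have hPF : PropFib S₂ R (q.comap (tensorHom R₂ R S₂ S)) u₂ := by
    intro z hz
    rw [hQm] at hz ⊢
    have hz' : (u₂.baseChange (Localization.AtPrime (q.comap (tensorHom R₂ R S₂ S))) z) ∈
      m • (⊤ : Submodule R (Localization.AtPrime (q.comap (tensorHom R₂ R S₂ S)) ⊗[S₂] N₂)) := hz
    have h2 := (mem_smul_top_equiv (tensorLocEquiv R₂ R S₂ S q L N₂) m
      (u₂.baseChange (Localization.AtPrime (q.comap (tensorHom R₂ R S₂ S))) z)).mpr hz'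
    rw [tensorLocEquiv_baseChange] at h2
    exact (mem_smul_top_equiv (tensorLocEquiv R₂ R S₂ S q L M₂) m z).mp (hfib _ h2)
  have hPD := core (fun i : FGSub R₂ R => ↥i.1)
    (fun i j h => Subalgebra.inclusion (show i.1 ≤ j.1 from h)) R
    (isDirectedColimitRing_fgSub R₂ R) S₂ (q.comap (tensorHom R₂ R S₂ S)) u₂ m hQm hPF
  have h3 : tensorLocEquiv R₂ R S₂ S q L M₂ ((tensorLocEquiv R₂ R S₂ S q L M₂).symm x) = x :=
    (tensorLocEquiv R₂ R S₂ S q L M₂).apply_symm_apply x
  have h0 : u₂.baseChange (Localization.AtPrime (q.comap (tensorHom R₂ R S₂ S)))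
      ((tensorLocEquiv R₂ R S₂ S q L M₂).symm x) ∈
      J • (⊤ : Submodule R (Localization.AtPrime (q.comap (tensorHom R₂ R S₂ S)) ⊗[S₂] N₂)) := by
    refine (mem_smul_top_equiv (tensorLocEquiv R₂ R S₂ S q L N₂) J
      (u₂.baseChange (Localization.AtPrime (q.comap (tensorHom R₂ R S₂ S)))
        ((tensorLocEquiv R₂ R S₂ S q L M₂).symm x))).mp ?_
    rw [tensorLocEquiv_baseChange, h3]
    exact hx
  have h1 := hPD J ((tensorLocEquiv R₂ R S₂ S q L M₂).symm x) h0
  have h4 := (mem_smul_top_equiv (tensorLocEquiv R₂ R S₂ S q L M₂) J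
    ((tensorLocEquiv R₂ R S₂ S q L M₂).symm x)).mpr h1
  rw [h3] at h4
  exact h4

end Model

end Groth.Agent.Helper7.InjFib
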