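import Mathlib
import Groth.Prelude.Def_CAlgX
import Groth.Agent.Lib.Helper7.InjFib.Basic
import Groth.Agent.Lib.Helper7.InjFib.Transfer
import Groth.Agent.Lib.Helper7.InjFib.Model
import Groth.Agent.Lib.Helper3.UInj1

set_option linter.style.haveILetI false
set_option linter.unusedVariables false
set_option linter.unusedSectionVars false
set_option autoImplicit false
set_option backward.isDefEq.respectTransparency.types false
set_option synthInstance.maxHeartbeats 400000
set_option maxHeartbeats 800000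

universe u

/-! helper7: EGA IV 11.3.7 local form (S2107): injectivity modulo the maximal ideal implies injectivity and flat cokernel -/

open TensorProduct

namespace Groth.Agent.Helper7.InjFib

open Groth.Agent.Lead.FlatLoc Groth.Agent.Helper3.ColimFlat

section Layer1

variable (R₂ R S₂ S : Type u) [CommRing R₂] [CommRing R] [CommRing S₂] [CommRing S]
  [IsNoetherianRing R₂]
  [Algebra R₂ R] [Algebra R₂ S₂] [Algebra.FiniteType R₂ S₂] [Algebra R S] [Algebra S₂ S]
  [Algebra R₂ S]
  [IsScalarTower R₂ R S] [IsScalarTower R₂ S₂ S] [Algebra.IsPushout R₂ R S₂ S]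
  (q : Ideal S) [q.IsPrime] (m : Ideal R) [m.IsMaximal]
  (L : Type u) [CommRing L] [Algebra S L] [IsLocalization.AtPrime L q] [Algebra R L]
  [IsScalarTower R S L] [Algebra S₂ L] [IsScalarTower S₂ S L]
  {M₂ N₂ : Type u} [AddCommGroup M₂] [Module S₂ M₂] [Module.Finite S₂ M₂]
  [AddCommGroup N₂] [Module S₂ N₂] [Module.Finite S₂ N₂] (u₂ : M₂ →ₗ[S₂] N₂)
  {X Y : Type u} [AddCommGroup X] [Module L X] [Module R X] [IsScalarTower R L X]
  [Module S₂ X] [IsScalarTower S₂ L X]
  [AddCommGroup Y] [Module L Y] [Module R Y] [IsScalarTower R L Y]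
  [Module S₂ Y] [IsScalarTower S₂ L Y]
  (v : X →ₗ[L] Y) (φM : M₂ →ₗ[S₂] X) (φN : N₂ →ₗ[S₂] Y)
  (hφM : IsBaseChange L φM) (hφN : IsBaseChange L φN)
  (hcomm : ∀ x, φN (u₂ x) = v (φM x))

include R₂ hφM hφN hcomm in
/-- the ideal-wise injectivity property for a map of modules over the local ring `L` admitting a
model -/
theorem propD_of_model (hqm : q.comap (algebraMap R S) = m) [Module.Flat R Y]
    (hfib : ∀ x : X, v x ∈ m • (⊤ : Submodule R Y) → x ∈ m • (⊤ : Submodule R X))
    (J : Ideal R) (x : X) (hx : v x ∈ J • (⊤ : Submodule R Y)) :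
    x ∈ J • (⊤ : Submodule R X) := by
  let EM : L ⊗[S₂] M₂ ≃ₗ[R] X := hφM.equiv.restrictScalars R
  let EN : L ⊗[S₂] N₂ ≃ₗ[R] Y := hφN.equiv.restrictScalars R
  have hEM : ∀ (l : L) (a : M₂), EM (l ⊗ₜ a) = l • φM a := fun l a => hφM.equiv_tmul l a
  have hEN : ∀ (l : L) (a : N₂), EN (l ⊗ₜ a) = l • φN a := fun l a => hφN.equiv_tmul l a
  have hnat : ∀ z : L ⊗[S₂] M₂, v (EM z) = EN (u₂.baseChange L z) := by
    intro z
    induction z using TensorProduct.induction_on with
    | zero => simp
    | tmul l a =>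
      rw [hEM, LinearMap.baseChange_tmul, hEN, map_smul, hcomm]
    | add a b ha hb => simp only [map_add, ha, hb]
  haveI : Module.Flat R (L ⊗[S₂] N₂) := Module.Flat.of_linearEquiv EN
  have hfib' : ∀ z : L ⊗[S₂] M₂, u₂.baseChange L z ∈ m • (⊤ : Submodule R (L ⊗[S₂] N₂)) →
      z ∈ m • (⊤ : Submodule R (L ⊗[S₂] M₂)) := by
    intro z hz
    have h1 := (mem_smul_top_equiv EN m (u₂.baseChange L z)).mpr hz
    rw [← hnat] at h1
    exact (mem_smul_top_equiv EM m z).mp (hfib _ h1)
  have hD := core_model R₂ R S₂ S q m L u₂ hqm hfib' J (EM.symm x) (by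
    refine (mem_smul_top_equiv EN J (u₂.baseChange L (EM.symm x))).mp ?_
    rw [← hnat, LinearEquiv.apply_symm_apply]
    exact hx)
  have h2 := (mem_smul_top_equiv EM J (EM.symm x)).mpr hD
  rwa [LinearEquiv.apply_symm_apply] at h2

end Layer1

section Layer2

open IsLocalRing

set_option maxHeartbeats 3200000 in
/-- **EGA IV 11.3.7 (local form)**: injectivity modulo the maximal ideal implies injectivity and
flatness of the cokernel. -/
theorem S2107_main {R S M N : Type u} [CommRing R] [CommRing S] [IsLocalRing R]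
    [IsLocalRing S] [Algebra R S] [IsLocalHom (algebraMap R S)]
    (hS : CAlgX.IsEssFinitePresentation R S)
    [AddCommGroup M] [Module S M] [Module R M] [IsScalarTower R S M]
    [Module.FinitePresentation S M]
    [AddCommGroup N] [Module S N] [Module R N] [IsScalarTower R S N]
    [Module.FinitePresentation S N] [Module.Flat R N]
    (u : M →ₗ[S] N)
    (hu : ∀ x : M, u x ∈ (maximalIdeal R).map (algebraMap R S) • (⊤ : Submodule S N) →
      x ∈ (maximalIdeal R).map (algebraMap R S) • (⊤ : Submodule S M)) :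
    Function.Injective u ∧ Module.Flat R (N ⧸ LinearMap.range u) := by
  obtain ⟨C, _, _, _, _, Mon, hfpC, hlocS⟩ := hS
  haveI := hfpC
  haveI := hlocS
  haveI hq : IsLocalization.AtPrime S ((maximalIdeal S).comap (algebraMap C S)) :=
    Groth.Agent.Helper3.UInj.isLocalization_atPrime Mon
  letI : Module C M := Module.compHom M (algebraMap C S)
  haveI : IsScalarTower C S M := IsScalarTower.of_compHom C S M
  letI : Module C N := Module.compHom N (algebraMap C S)
  haveI : IsScalarTower C S N := IsScalarTower.of_compHom C S N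
  obtain ⟨M₁, _, _, _, ιM, hιM⟩ := Groth.Agent.Helper3.UInj.exists_fp_model (S₀ := C) (S := S)
    ((maximalIdeal S).comap (algebraMap C S)).primeCompl M
  obtain ⟨N₁, _, _, _, ιN, hιN⟩ := Groth.Agent.Helper3.UInj.exists_fp_model (S₀ := C) (S := S)
    ((maximalIdeal S).comap (algebraMap C S)).primeCompl N
  haveI : IsLocalizedModule ((maximalIdeal S).comap (algebraMap C S)).primeCompl ιN :=
    (isLocalizedModule_iff_isBaseChange _ S ιN).mpr hιN
  obtain ⟨u₁, s, hs⟩ := Module.FinitePresentation.exists_lift_of_isLocalizedModule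
    ((maximalIdeal S).comap (algebraMap C S)).primeCompl ιN ((u.restrictScalars C) ∘ₗ ιM)
  have hs' : ∀ x : M₁, ιN (u₁ x) = algebraMap C S s • u (ιM x) := fun x =>
    LinearMap.congr_fun hs x
  obtain ⟨R₀, hR₀, C₀, _, _, _, _, M₀, _, _, N₀, _, _, _, _, _, _, u₀, fM, fN, hfp, hfinM, hfinN,
    hpush, hbcM, hbcN, hcomm⟩ := exists_model₂ R C u₁
  haveI := hfp
  haveI := hfinM
  haveI := hfinN
  haveI := hpush
  haveI : Algebra.FiniteType ℤ R₀ := (Subalgebra.fg_iff_finiteType R₀).mp hR₀
  haveI : IsNoetherianRing R₀ := Algebra.FiniteType.isNoetherianRing ℤ R₀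
  haveI : Algebra.FiniteType R₀ C₀ := inferInstance
  letI aC₀S : Algebra C₀ S := ((algebraMap C S).comp (algebraMap C₀ C)).toAlgebra
  haveI : IsScalarTower C₀ C S := IsScalarTower.of_algebraMap_eq fun _ => rfl
  letI : Module C₀ M := Module.compHom M (algebraMap C₀ S)
  haveI : IsScalarTower C₀ S M := IsScalarTower.of_compHom C₀ S M
  letI : Module C₀ N := Module.compHom N (algebraMap C₀ S)
  haveI : IsScalarTower C₀ S N := IsScalarTower.of_compHom C₀ S N
  haveI : IsScalarTower C₀ C M := IsScalarTower.of_algebraMap_smul fun _ _ => rfl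
  haveI : IsScalarTower C₀ C N := IsScalarTower.of_algebraMap_smul fun _ _ => rfl
  let φM : M₀ →ₗ[C₀] M := (ιM.restrictScalars C₀) ∘ₗ fM
  let φN : N₀ →ₗ[C₀] N := (ιN.restrictScalars C₀) ∘ₗ fN
  have hφM : IsBaseChange S φM := IsBaseChange.comp hbcM hιM
  have hφN : IsBaseChange S φN := IsBaseChange.comp hbcN hιN
  -- the unit
  have hsu : IsUnit (algebraMap C S s) :=
    IsLocalization.map_units S (M := ((maximalIdeal S).comap (algebraMap C S)).primeCompl) s
  obtain ⟨w, hw⟩ := hsu.exists_left_inv
  let v : M →ₗ[S] N := algebraMap C S s • u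
  have hv : ∀ x, v x = algebraMap C S s • u x := fun x => rfl
  have hcomm' : ∀ x, φN (u₀ x) = v (φM x) := by
    intro x
    show ιN (fN (u₀ x)) = v (ιM (fM x))
    rw [hcomm, hs', hv]
  have hqm : ((maximalIdeal S).comap (algebraMap C S)).comap (algebraMap R C) = maximalIdeal R := by
    rw [Ideal.comap_comap, ← IsScalarTower.algebraMap_eq R C S]
    have hloc : IsLocalHom (algebraMap R S) := inferInstance
    have h04 : (maximalIdeal S).comap (algebraMap R S) = maximalIdeal R :=
      ((local_hom_TFAE (algebraMap R S)).out 0 4).mp hloc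
    exact h04
  -- sets of the form `J • ⊤` are stable under `S`
  have hstab : ∀ (J : Ideal R) (a : S) (y : N), y ∈ J • (⊤ : Submodule R N) →
      a • y ∈ J • (⊤ : Submodule R N) := by
    intro J a y hy
    rw [← mem_map_smul_top_iff (S := S)] at hy ⊢
    exact Submodule.smul_mem _ a hy
  have hstabM : ∀ (J : Ideal R) (a : S) (y : M), y ∈ J • (⊤ : Submodule R M) →
      a • y ∈ J • (⊤ : Submodule R M) := by
    intro J a y hy
    rw [← mem_map_smul_top_iff (S := S)] at hy ⊢
    exact Submodule.smul_mem _ a hy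
  have hfib : ∀ x : M, v x ∈ (maximalIdeal R) • (⊤ : Submodule R N) →
      x ∈ (maximalIdeal R) • (⊤ : Submodule R M) := by
    intro x hx
    have h1 : u (algebraMap C S s • x) ∈ (maximalIdeal R) • (⊤ : Submodule R N) := by
      rw [map_smul]
      exact hx
    rw [← mem_map_smul_top_iff (S := S)] at h1
    have h2 := hu _ h1
    rw [mem_map_smul_top_iff] at h2
    have h3 := hstabM _ w _ h2
    rwa [smul_smul, hw, one_smul] at h3
  have hD : ∀ (J : Ideal R) (x : M), u.restrictScalars R x ∈ J • (⊤ : Submodule R N) →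
      x ∈ J • (⊤ : Submodule R M) := by
    intro J x hx
    refine propD_of_model R₀ R C₀ C ((maximalIdeal S).comap (algebraMap C S)) (maximalIdeal R) S
      u₀ v φM φN hφM hφN hcomm' hqm hfib J x ?_
    rw [hv]
    exact hstab J _ _ hx
  refine ⟨injective_of_forall_mem (u.restrictScalars R) hD, ?_⟩
  have hflat := flat_quotient_range_of_forall_mem (u.restrictScalars R) hD
  haveI : Module.Flat R (N ⧸ (LinearMap.range u).restrictScalars R) := hflat
  exact Module.Flat.of_linearEquiv
    (Submodule.Quotient.restrictScalarsEquiv R (LinearMap.range u)).symm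

end Layer2

end Groth.Agent.Helper7.InjFib
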