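import Mathlib
import Groth.Prelude.Def_CAlgX

set_option linter.style.haveILetI false
set_option linter.unusedVariables false
set_option linter.unusedSectionVars false
set_option autoImplicit false
set_option backward.isDefEq.respectTransparency.types false
set_option synthInstance.maxHeartbeats 400000
set_option maxHeartbeats 800000

universe u

/-! helper7: local rings of a finitely presented algebra are essentially of finite presentation over the local rings of the base -/

open TensorProduct

namespace Groth.Agent.Helper7.InjFib

attribute [local instance] Algebra.TensorProduct.rightAlgebra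

/-- the local ring of a finitely presented algebra at a prime is essentially of finite presentation
over the local ring of the base at the contracted prime -/
theorem essFP_of_localization {R C Rp Cq : Type u} [CommRing R] [CommRing C] [CommRing Rp]
    [CommRing Cq] [Algebra R C] [Algebra.FinitePresentation R C] [Algebra R Rp] [Algebra C Cq]
    [Algebra Rp Cq] [Algebra R Cq] [IsScalarTower R C Cq] [IsScalarTower R Rp Cq]
    (p : Ideal R) [p.IsPrime] (q : Ideal C) [q.IsPrime] [IsLocalization.AtPrime Rp p]
    [IsLocalization.AtPrime Cq q] : CAlgX.IsEssFinitePresentation Rp Cq := by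
  let φ : Rp ⊗[R] C →ₐ[R] Cq :=
    Algebra.TensorProduct.lift (IsScalarTower.toAlgHom R Rp Cq) (IsScalarTower.toAlgHom R C Cq)
      (fun _ _ => Commute.all _ _)
  letI aS : Algebra (Rp ⊗[R] C) Cq := φ.toRingHom.toAlgebra
  have hφ : ∀ (a : Rp) (c : C), algebraMap (Rp ⊗[R] C) Cq (a ⊗ₜ c) =
      algebraMap Rp Cq a * algebraMap C Cq c := fun a c => by
    show φ (a ⊗ₜ c) = _
    simp [φ]
  haveI t1 : IsScalarTower Rp (Rp ⊗[R] C) Cq := IsScalarTower.of_algebraMap_eq fun a => by
    rw [Algebra.TensorProduct.algebraMap_apply, hφ, map_one, mul_one, Algebra.algebraMap_self_apply]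
  haveI t2 : IsScalarTower C (Rp ⊗[R] C) Cq := IsScalarTower.of_algebraMap_eq fun c => by
    rw [Algebra.TensorProduct.algebraMap_eq_includeRight]
    show _ = algebraMap (Rp ⊗[R] C) Cq ((1 : Rp) ⊗ₜ c)
    rw [hφ, map_one, one_mul]
  have hle : Algebra.algebraMapSubmonoid C p.primeCompl ≤ q.primeCompl := by
    rintro _ ⟨r, hr, rfl⟩
    have h1 : IsUnit (algebraMap R Rp r) := IsLocalization.map_units Rp (⟨r, hr⟩ : p.primeCompl)
    have h2 : IsUnit (algebraMap C Cq (algebraMap R C r)) := by
      rw [← IsScalarTower.algebraMap_apply R C Cq, IsScalarTower.algebraMap_apply R Rp Cq]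
      exact h1.map _
    exact (IsLocalization.AtPrime.isUnit_to_map_iff Cq q _).mp h2
  haveI : IsLocalization (Algebra.algebraMapSubmonoid C p.primeCompl) (Rp ⊗[R] C) :=
    IsLocalization.tensorRight (A := Rp) p.primeCompl
  have hloc := IsLocalization.isLocalization_of_submonoid_le (Rp ⊗[R] C) Cq
    (Algebra.algebraMapSubmonoid C p.primeCompl) q.primeCompl hle
  exact ⟨Rp ⊗[R] C, inferInstance, inferInstance, aS, t1, _, inferInstance, hloc⟩

end Groth.Agent.Helper7.InjFib
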