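import Mathlib
import Groth.Prelude.Def_CAlgX
import Groth.Prelude.Def_FlatMod2
import Groth.Agent.Lib.Helper7.InjFib.Main
import Groth.Agent.Lib.Helper7.InjFib.EssFP
import Groth.Agent.Lib.Helper3.KerFP4

set_option linter.style.haveILetI false
set_option linter.unusedVariables false
set_option linter.unusedSectionVars false
set_option autoImplicit false
set_option backward.isDefEq.respectTransparency.types false
set_option synthInstance.maxHeartbeats 400000
set_option maxHeartbeats 800000

universe u

/-! helper7: EGA IV 11.3.7 a) iff b) for schemes (S4850), via stalks -/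

open AlgebraicGeometry CategoryTheory CategoryTheory.Limits TopologicalSpace TensorProduct

namespace Groth.Agent.Helper7.InjFib

open Groth.Agent.Lead.FO Groth.Agent.Lead.SD Scheme.Modules Groth.Agent.Lib.Helper5.StalkAdj
  Groth.Agent.Helper3.KerFP

attribute [local instance] stalkModule

/-- the converse: an injection with flat cokernel is injective modulo every ideal -/
theorem forall_mem_of_flat_quotient_range {R : Type u} [CommRing R] {N M : Type u}
    [AddCommGroup N] [Module R N] [AddCommGroup M] [Module R M]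
    (u : N →ₗ[R] M) (hinj : Function.Injective u) [Module.Flat R (M ⧸ LinearMap.range u)]
    (J : Ideal R) (x : N) (hx : u x ∈ J • (⊤ : Submodule R M)) :
    x ∈ J • (⊤ : Submodule R N) := by
  have h1 : Function.Injective (u.lTensor (R ⧸ J)) :=
    lTensor_injective_of_exact_of_exact_of_rTensor_injective
      (f₁ := J.subtype) (f₂ := J.mkQ) (g₁ := u) (g₂ := (LinearMap.range u).mkQ)
      (LinearMap.exact_subtype_mkQ J) (Submodule.mkQ_surjective J)
      (LinearMap.exact_map_mkQ_range u) (Submodule.mkQ_surjective _)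
      (Module.Flat.rTensor_preserves_injective_linearMap _ J.subtype_injective)
      (Module.Flat.lTensor_preserves_injective_linearMap u hinj)
  have h2 : (1 : R ⧸ J) ⊗ₜ[R] x = 0 := by
    apply h1
    rw [LinearMap.lTensor_tmul, map_zero]
    apply (TensorProduct.quotTensorEquivQuotSMul M J).injective
    rw [map_zero, ← map_one (Ideal.Quotient.mk J), TensorProduct.quotTensorEquivQuotSMul_mk_tmul,
      one_smul, Submodule.Quotient.mk_eq_zero]
    exact hx
  have h3 := congrArg (TensorProduct.quotTensorEquivQuotSMul N J) h2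
  rw [map_zero, ← map_one (Ideal.Quotient.mk J), TensorProduct.quotTensorEquivQuotSMul_mk_tmul,
    one_smul, Submodule.Quotient.mk_eq_zero] at h3
  exact h3

/-- for a morphism locally of finite presentation, the local ring of the source is essentially
of finite presentation over the local ring of the target -/
theorem essFP_stalk {X Y : Scheme.{u}} (f : X ⟶ Y) [LocallyOfFinitePresentation f] (x : X) :
    letI := (f.stalkMap x).hom.toAlgebra
    CAlgX.IsEssFinitePresentation (Y.presheaf.stalk (f x)) (X.presheaf.stalk x) := by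
  letI := (f.stalkMap x).hom.toAlgebra
  obtain ⟨_, ⟨V, hV, rfl⟩, hxV, -⟩ :=
    Y.isBasis_affineOpens.exists_subset_of_mem_open (Set.mem_univ (f x)) isOpen_univ
  obtain ⟨_, ⟨U, hU, rfl⟩, hxU, hUV⟩ :=
    X.isBasis_affineOpens.exists_subset_of_mem_open (show x ∈ (f ⁻¹ᵁ V : Set X) from hxV)
      (f ⁻¹ᵁ V).isOpen
  have hUV' : U ≤ f ⁻¹ᵁ V := hUV
  have hφ : (f.appLE V U hUV').hom.FinitePresentation :=
    HasRingHomProperty.appLE (P := @LocallyOfFinitePresentation) f inferInstance ⟨V, hV⟩ ⟨U, hU⟩
      hUV'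
  letI alg : Algebra Γ(Y, V) Γ(X, U) := (f.appLE V U hUV').hom.toAlgebra
  haveI : Algebra.FinitePresentation Γ(Y, V) Γ(X, U) := hφ
  let xU : U := ⟨x, hxU⟩
  let yV : V := ⟨f x, hxV⟩
  letI a1 : Algebra Γ(Y, V) (Y.presheaf.stalk (f x)) := Y.presheaf.algebra_section_stalk yV
  letI a2 : Algebra Γ(X, U) (X.presheaf.stalk x) := X.presheaf.algebra_section_stalk xU
  haveI l1 : IsLocalization.AtPrime (Y.presheaf.stalk (f x)) (hV.primeIdealOf yV).asIdeal :=
    hV.isLocalization_stalk yV
  haveI l2 : IsLocalization.AtPrime (X.presheaf.stalk x) (hU.primeIdealOf xU).asIdeal :=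
    hU.isLocalization_stalk xU
  letI a3 : Algebra Γ(Y, V) (X.presheaf.stalk x) :=
    ((algebraMap Γ(X, U) (X.presheaf.stalk x)).comp (algebraMap Γ(Y, V) Γ(X, U))).toAlgebra
  haveI t1 : IsScalarTower Γ(Y, V) Γ(X, U) (X.presheaf.stalk x) :=
    IsScalarTower.of_algebraMap_eq fun _ => rfl
  haveI t2 : IsScalarTower Γ(Y, V) (Y.presheaf.stalk (f x)) (X.presheaf.stalk x) :=
    IsScalarTower.of_algebraMap_eq fun r => (stalkMap_germ_eq f hUV' xU r).symm
  exact essFP_of_localization (hV.primeIdealOf yV).asIdeal (hU.primeIdealOf xU).asIdeal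

/-- stalks of finitely presented quasi-coherent modules are finitely presented -/
theorem fp_stalk {X : Scheme.{u}} (F : X.Modules) [F.IsQuasicoherent] (hF : CohB1.IsFP F)
    (x : X) : Module.FinitePresentation (X.presheaf.stalk x) (F.presheaf.stalk x) := by
  obtain ⟨_, ⟨U, hU, rfl⟩, hxU, -⟩ :=
    X.isBasis_affineOpens.exists_subset_of_mem_open (Set.mem_univ x) isOpen_univ
  obtain ⟨xU, rfl⟩ : ∃ xU : U, xU.1 = x := ⟨⟨x, hxU⟩, rfl⟩
  haveI : Module.FinitePresentation Γ(X, U) Γ(F, U) :=
    Groth.Agent.Lead.FP.fp_sections_of_isFP F hF hU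
  haveI := hU.isLocalization_stalk xU
  haveI := isLocalizedModule_germ F hU xU
  have hbc : IsBaseChange (X.presheaf.stalk xU.1) (germₗ F xU) :=
    (isLocalizedModule_iff_isBaseChange (hU.primeIdealOf xU).asIdeal.primeCompl
      (X.presheaf.stalk xU.1) (germₗ F xU)).mp inferInstance
  exact FinitePresentation.of_isBaseChange (germₗ F xU) hbc

section Coker

variable {X : Scheme.{u}} {F' F : X.Modules} (u : F' ⟶ F) (x : X)

theorem stk_cokernel_π_surjective : Function.Surjective (stk (cokernel.π u) x) := by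
  haveI : Epi ((stalkSh X x).map (cokernel.π u)) := inferInstance
  exact (ModuleCat.epi_iff_surjective _).1 this

theorem stk_cokernel_exact (a : ↑((stalkSh X x).obj F)) (ha : stk (cokernel.π u) x a = 0) :
    ∃ b, stk u x b = a := by
  have hexact : (ShortComplex.mk u (cokernel.π u) (cokernel.condition u)).Exact :=
    ShortComplex.exact_of_g_is_cokernel _ (cokernelIsCokernel u)
  have hex2 := hexact.map (stalkSh X x)
  rw [ShortComplex.moduleCat_exact_iff] at hex2
  exact hex2 a ha

theorem range_stk_eq_ker :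
    LinearMap.range (stk u x) = LinearMap.ker (stk (cokernel.π u) x) := by
  apply le_antisymm
  · rintro _ ⟨b, rfl⟩
    rw [LinearMap.mem_ker, ← stk_comp, cokernel.condition, stk_zero_apply]
  · intro a ha
    exact stk_cokernel_exact u x a ha

/-- the stalk of the cokernel is the cokernel of the stalk map -/
noncomputable def stalkCokerEquiv :
    (↑((stalkSh X x).obj F) ⧸ LinearMap.range (stk u x)) ≃ₗ[X.presheaf.stalk x]
      ↑((stalkSh X x).obj (cokernel u)) :=
  (Submodule.quotEquivOfEq _ _ (range_stk_eq_ker u x)).trans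
    (LinearMap.quotKerEquivOfSurjective (stk (cokernel.π u) x) (stk_cokernel_π_surjective u x))

end Coker

set_option maxHeartbeats 3200000 in
/-- **EGA IV 11.3.7, equivalence of a) and b)** -/
theorem S4850_main {X Y : Scheme.{u}} (f : X ⟶ Y)
    [LocallyOfFinitePresentation f] (F F' : X.Modules) [F.IsQuasicoherent] [F'.IsQuasicoherent]
    (hF : CohB1.IsFP F) (hF' : CohB1.IsFP F') (u : F' ⟶ F) (x : X)
    (hflat : FlatMod.IsFlatOverAt f F x) :
    (Function.Injective ((TopCat.Presheaf.stalkFunctor Ab x).map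
        (Scheme.Modules.Hom.mapPresheaf u)) ∧ FlatMod.IsFlatOverAt f (cokernel u) x) ↔
      ∀ m : ↑(F'.presheaf.stalk x),
        (TopCat.Presheaf.stalkFunctor Ab x).map (Scheme.Modules.Hom.mapPresheaf u) m ∈
          ((Ideal.map (f.stalkMap x).hom (IsLocalRing.maximalIdeal ↑(Y.presheaf.stalk (f x)))) •
            (⊤ : Submodule ↑(X.presheaf.stalk x) ↑(F.presheaf.stalk x))) →
          m ∈ ((Ideal.map (f.stalkMap x).hom
            (IsLocalRing.maximalIdeal ↑(Y.presheaf.stalk (f x)))) •
              (⊤ : Submodule ↑(X.presheaf.stalk x) ↑(F'.presheaf.stalk x))) := by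
  letI alg : Algebra (Y.presheaf.stalk (f x)) (X.presheaf.stalk x) := (f.stalkMap x).hom.toAlgebra
  haveI hloc : IsLocalHom (algebraMap (Y.presheaf.stalk (f x)) (X.presheaf.stalk x)) :=
    (inferInstance : IsLocalHom (f.stalkMap x).hom)
  letI mF : Module (Y.presheaf.stalk (f x)) (F.presheaf.stalk x) := FlatMod.moduleStalkOver f F x
  letI mF' : Module (Y.presheaf.stalk (f x)) (F'.presheaf.stalk x) :=
    FlatMod.moduleStalkOver f F' x
  letI mQ : Module (Y.presheaf.stalk (f x)) ((cokernel u).presheaf.stalk x) :=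
    FlatMod.moduleStalkOver f (cokernel u) x
  haveI tF : IsScalarTower (Y.presheaf.stalk (f x)) (X.presheaf.stalk x) (F.presheaf.stalk x) :=
    IsScalarTower.of_algebraMap_smul fun r m => rfl
  haveI tF' : IsScalarTower (Y.presheaf.stalk (f x)) (X.presheaf.stalk x)
      (F'.presheaf.stalk x) := IsScalarTower.of_algebraMap_smul fun r m => rfl
  haveI tQ : IsScalarTower (Y.presheaf.stalk (f x)) (X.presheaf.stalk x)
      ((cokernel u).presheaf.stalk x) := IsScalarTower.of_algebraMap_smul fun r m => rfl
  haveI := fp_stalk F hF x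
  haveI := fp_stalk F' hF' x
  haveI hfl : Module.Flat (Y.presheaf.stalk (f x)) (F.presheaf.stalk x) := hflat
  have hess := essFP_stalk f x
  let v : F'.presheaf.stalk x →ₗ[X.presheaf.stalk x] F.presheaf.stalk x := stk u x
  have hv : ∀ m, (TopCat.Presheaf.stalkFunctor Ab x).map (Scheme.Modules.Hom.mapPresheaf u) m =
      v m := fun m => rfl
  let e : (F.presheaf.stalk x ⧸ LinearMap.range v) ≃ₗ[X.presheaf.stalk x]
      (cokernel u).presheaf.stalk x := stalkCokerEquiv u x
  let eA : (F.presheaf.stalk x ⧸ LinearMap.range v) ≃ₗ[Y.presheaf.stalk (f x)]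
      (cokernel u).presheaf.stalk x := e.restrictScalars (Y.presheaf.stalk (f x))
  constructor
  · rintro ⟨hinj, hflQ⟩ m hm
    haveI : Module.Flat (Y.presheaf.stalk (f x)) ((cokernel u).presheaf.stalk x) := hflQ
    haveI h1 : Module.Flat (Y.presheaf.stalk (f x)) (F.presheaf.stalk x ⧸ LinearMap.range v) :=
      Module.Flat.of_linearEquiv eA
    haveI h2 : Module.Flat (Y.presheaf.stalk (f x))
        (F.presheaf.stalk x ⧸ LinearMap.range (v.restrictScalars (Y.presheaf.stalk (f x)))) :=
      Module.Flat.of_linearEquiv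
        (Submodule.Quotient.restrictScalarsEquiv (Y.presheaf.stalk (f x)) (LinearMap.range v))
    rw [hv] at hm
    have h3 : (v.restrictScalars (Y.presheaf.stalk (f x))) m ∈
        (IsLocalRing.maximalIdeal (Y.presheaf.stalk (f x))) •
          (⊤ : Submodule (Y.presheaf.stalk (f x)) (F.presheaf.stalk x)) :=
      (mem_map_smul_top_iff (R := Y.presheaf.stalk (f x)) (S := X.presheaf.stalk x)
        (IsLocalRing.maximalIdeal (Y.presheaf.stalk (f x))) (v m)).mp hm
    have h4 := forall_mem_of_flat_quotient_range (v.restrictScalars (Y.presheaf.stalk (f x)))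
      hinj (IsLocalRing.maximalIdeal (Y.presheaf.stalk (f x))) m h3
    exact (mem_map_smul_top_iff (R := Y.presheaf.stalk (f x)) (S := X.presheaf.stalk x)
      (IsLocalRing.maximalIdeal (Y.presheaf.stalk (f x))) m).mpr h4
  · intro h
    obtain ⟨h1, h2⟩ := S2107_main hess v h
    haveI := h2
    exact ⟨h1, Module.Flat.of_linearEquiv eA.symm⟩

end Groth.Agent.Helper7.InjFib
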